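import Cfsg.Agent.Lib.FusionLifting.Uniq
import Cfsg.Agent.Lib.FusionBasics.Criterion.Main

/-!
The generated system is saturated and weakly normal in `F`: a normal subsystem of the factor system
modulo a central subgroup lifts to a weakly normal subsystem.
-/

set_option autoImplicit false
set_option linter.style.haveILetI false
set_option linter.unusedSectionVars false

namespace CfsgLib.FusionLifting

open Cfsg Cfsg.FusionSystem CfsgLib.Alperin CfsgLib.FusionSub CfsgLib.FusionBasics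

universe u v

variable {Ω : Type u} [Group Ω] {Γ : Type v} [Group Γ] {S Z : Subgroup Ω} {S' T' : Subgroup Γ}
  {F : FusionSystem S} {θ : S →* Γ} {E : FusionSystem S'} {D : FusionSystem T'} {p : ℕ}
  [Fact p.Prime] [Finite S]

namespace LCtx

variable (c : LCtx F Z θ E D p)
include c

theorem zle_pre : Z ≤ preimageAlong θ T' := c.z_le_pre T'

theorem exists_th_normalizer {P : Subgroup Ω} (hPS : P ≤ S) (hZ : Z ≤ P) {y : Γ} (hy : y ∈ T')
    (hn : y ∈ Subgroup.normalizer (imageAlong θ P : Set Γ)) :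
    ∃ t ∈ preimageAlong θ T', t ∈ Subgroup.normalizer (P : Set Ω) ∧ th θ t = y := by
  obtain ⟨t, htS, rfl⟩ := c.exists_th (c.tle hy)
  refine ⟨t, mem_pre.mpr ⟨htS, hy⟩, ?_, rfl⟩
  have h := (CfsgLib.FusionModels.mem_normalizerIn_preimage c.fac.2.2.1 (c.img_le P)
    ⟨t, htS⟩).mpr (by rw [← th_eq θ htS]; exact ⟨c.th_mem htS, hn⟩)
  rw [c.pre_img hPS hZ] at h
  exact h.2

theorem th_mem_normalizer {P : Subgroup Ω} (hPS : P ≤ S) {g : Ω} (hg : g ∈ S)
    (hn : g ∈ Subgroup.normalizer (P : Set Ω)) :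
    th θ g ∈ Subgroup.normalizer (imageAlong θ P : Set Γ) := by
  have key : ∀ g : Ω, g ∈ S → g ∈ Subgroup.normalizer (P : Set Ω) → ∀ y ∈ imageAlong θ P,
      th θ g * y * (th θ g)⁻¹ ∈ imageAlong θ P := by
    intro g hg hn y hy
    obtain ⟨x, rfl⟩ := (mem_img hPS).mp hy
    rw [← th_conj θ hg (hPS x.2)]
    exact th_mem_img hPS ((Subgroup.mem_normalizer_iff.mp hn x).mp x.2)
  refine Subgroup.mem_normalizer_iff.mpr fun y => ⟨key g hg hn y, fun hy => ?_⟩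
  have h := key g⁻¹ (inv_mem hg) (inv_mem hn) _ hy
  rw [th_inv θ hg] at h
  simpa [mul_assoc] using h

/-- The maps on subgroups with centric image generate. -/
theorem d0_gen (X : FusionSystem (preimageAlong θ T'))
    (hX : ∀ P ∈ {P | Ok θ Z D P}, (d0 c).Hom P ⊆ X.Hom P) : d0 c ≤ X := by
  intro P φ hφ
  change Gen0 F θ Z D p P φ at hφ
  induction hφ with
  | @base P R hR hPR β hβ =>
    exact restrict_mem (φ := R.subtype.comp β.toMonoidHom)
      (hX R hR ((Gen0.base hR le_rfl β hβ).congr fun _ => rfl)) hPR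
  | conj hP t ht => exact X.conj_mem hP ht
  | comp _ _ h ih₁ ih₂ => exact X.comp_mem ih₁ ih₂ h

/-- A subgroup with centric image and fully normalized image is good. -/
theorem d0_good {P : Subgroup Ω} (hP : Ok θ Z D P)
    (hfull : D.IsFullyNormalized (imageAlong θ P)) :
    (d0 c).IsFullyAutomized p P ∧ (d0 c).IsReceptive P := by
  haveI := c.finS
  haveI := finite_of_le c.tle
  set T := preimageAlong θ T' with hTdef
  have hTS : T ≤ S := preimageAlong_le θ T'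
  haveI := finite_of_le hTS
  haveI := finite_of_le hP.leS
  haveI := finite_autGroup (d0 c) hP.leT
  have hTp := isPGroup_of_le c.isP hTS
  have hT'p := isPGroup_of_le c.isP' c.tle
  refine ⟨⟨hP.leT, ?_⟩, hP.leT, ?_⟩
  · set G := (d0 c).autGroup P with hG
    set A : Subgroup G := (autInducedBy T P).subgroupOf G
    have hAp : IsPGroup p A :=
      (isPGroup_autInducedBy hTp P).comap_of_injective _ Subtype.val_injective
    obtain ⟨R, hAR⟩ := hAp.exists_le_sylow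
    refine ⟨R, le_antisymm ?_ hAR⟩
    have hGA : ∀ a : G, (a : MulAut P) ∈ hatA F θ D P := fun a => by
      obtain h := c.gen_indD ((mem_autGroup_iff (d0 c) hP.leT).mp a.2)
      exact (c.mem_hatA hP.leT).mpr ⟨(mem_autGroup_iff F hP.leS).mpr h.mem, h⟩
    obtain ⟨res, hresD, hres⟩ := c.exists_res hP.leT
    obtain ⟨-, RD, hRD⟩ := (centralized_automized_of_fullyNormalized hT'p c.dsat hfull).2
    let f : G →* D.autGroup (imageAlong θ P) := (res.codRestrict _ hresD).comp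
      (G.subtype.codRestrict (hatA F θ D P) hGA)
    have hval : ∀ (a : G) (x : P) (h : th θ (x : Ω) ∈ imageAlong θ P),
        ((((f a : D.autGroup (imageAlong θ P)) : MulAut (imageAlong θ P)) ⟨th θ x, h⟩ : _) : Γ) =
          th θ (((a : MulAut P) x : P) : Ω) := fun a x h => hres ⟨(a : MulAut P), hGA a⟩ x h
    have hconj : ∀ {t : Ω} (_ : t ∈ T) (hn : t ∈ Subgroup.normalizer (P : Set Ω)),
        ∃ a : G, (a : MulAut P) = conjAut P t hn := fun ht hn =>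
      ⟨⟨_, autInducedBy_le_autGroup (d0 c) hP.leT (conjAut_mem ht hn)⟩, rfl⟩
    have hRDle : (RD : Subgroup (D.autGroup (imageAlong θ P))) ≤ (R : Subgroup G).map f := by
      intro b hb
      rw [hRD] at hb
      obtain ⟨y, hy, hyx⟩ := mem_autInducedBy_iff.mp (Subgroup.mem_subgroupOf.mp hb)
      obtain ⟨t, ht, hn, rfl⟩ :=
        c.exists_th_normalizer hP.leS hP.zle hy (normalizer_of_induced hyx)
      obtain ⟨a, ha⟩ := hconj ht hn
      refine ⟨a, hAR (show (a : MulAut P) ∈ autInducedBy T P from ha ▸ conjAut_mem ht hn),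
        Subtype.ext (MulEquiv.ext fun z => Subtype.ext ?_)⟩
      obtain ⟨z, hz⟩ := z
      obtain ⟨x, rfl⟩ := (mem_img hP.leS).mp hz
      rw [hval a x hz, ha, hyx, conjAut_apply, th_conj θ (hTS ht) (hP.leS x.2)]
    have himg := RD.3 (R.2.map f) hRDle
    intro a ha
    have h1 : f a ∈ (RD : Subgroup (D.autGroup (imageAlong θ P))) := himg ▸ ⟨a, ha, rfl⟩
    rw [hRD] at h1
    obtain ⟨y, hy, hyx⟩ := mem_autInducedBy_iff.mp (Subgroup.mem_subgroupOf.mp h1)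
    obtain ⟨t, ht, hn, rfl⟩ :=
      c.exists_th_normalizer hP.leS hP.zle hy (normalizer_of_induced hyx)
    obtain ⟨b, hb⟩ := hconj ht hn
    have hk : ((b⁻¹ * a : G) : MulAut P) ∈ kerA F θ P := by
      refine ⟨((c.mem_hatA hP.leT).mp (hGA _)).1, fun x => ?_⟩
      have hbF := (mem_autGroup_iff F hP.leS).mp ((c.mem_hatA hP.leT).mp (hGA b)).1
      refine c.th_eq_of_map hbF _ x ?_
      show th θ (((b : MulAut P) ((b : MulAut P)⁻¹ ((a : MulAut P) x)) : P) : Ω) =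
        th θ (((b : MulAut P) x : P) : Ω)
      rw [MulAut.apply_inv_self, ← hval a x (th_mem_img hP.leS x.2), hb, conjAut_apply,
        th_conj θ (hTS ht) (hP.leS x.2)]
      exact hyx ⟨th θ x, th_mem_img hP.leS x.2⟩
    have hkG := c.uniq 0 P hP (Nat.card_pos) ((b⁻¹ * a : G) : MulAut P)
      ((mem_autGroup_iff (d0 c) hP.leT).mp (b⁻¹ * a).2)
    obtain ⟨u, hu, hux⟩ := c.genA_inner hP hkG hk
    refine Subgroup.mem_subgroupOf.mpr (mem_autInducedBy_iff.mpr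
      ⟨t * u, mul_mem ht (hP.leT hu), fun x => ?_⟩)
    have e : (a : MulAut P) x = (b : MulAut P) (((b⁻¹ * a : G) : MulAut P) x) := by
      show _ = (b : MulAut P) ((b : MulAut P)⁻¹ ((a : MulAut P) x))
      rw [MulAut.apply_inv_self]
    rw [e, hb, conjAut_apply, hux]
    group
  · intro Q φ hφ hr
    change Gen0 F θ Z D p Q φ at hφ
    obtain ⟨hφF, φ', hφ', hi⟩ := c.gen_indD hφ
    have hQT := c.gen_le hφ
    have hQS : Q ≤ S := hQT.trans hTS
    have hr' : φ'.range = imageAlong θ P := by rw [← c.ind_range hφF hi, hr]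
    obtain ⟨ψ', hψ', hψ'x⟩ :=
      (receptive_of_fullyNormalized hT'p c.dsat hfull).2 _ φ' hφ' hr'
    obtain ⟨χ, hχ, hj⟩ := c.exists_gen_lift hψ'
    set N := extender T Q φ with hN
    have hQN : Q ≤ N := le_extender (F := d0 c) (φ := φ) hφ
    have hNT : N ≤ T := extender_le Q φ
    have hle : N ≤ preimageAlong θ (extender T' (imageAlong θ Q) φ') := by
      intro g hg
      obtain ⟨hgT, hgn, h, hhT, hx⟩ := mem_extender_iff.mp hg
      refine mem_pre.mpr ⟨hTS hgT, mem_extender_iff.mpr ⟨(mem_pre.mp hgT).2,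
        c.th_mem_normalizer hQS (hTS hgT) hgn, th θ h, (mem_pre.mp hhT).2, ?_⟩⟩
      rintro ⟨z, hz⟩ hz'
      obtain ⟨x, rfl⟩ := (mem_img hQS).mp hz
      have hm : g * (x : Ω) * g⁻¹ ∈ Q := mem_normalizer_conj hgn x.2
      have e : th θ g * th θ (x : Ω) * (th θ g)⁻¹ = th θ (g * (x : Ω) * g⁻¹) :=
        (th_conj θ (hTS hgT) (hQS x.2)).symm
      rw [hi x hz, show (⟨th θ g * th θ (x : Ω) * (th θ g)⁻¹, hz'⟩ : imageAlong θ Q) =
        ⟨th θ (g * (x : Ω) * g⁻¹), e ▸ hz'⟩ from Subtype.ext e,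
        hi ⟨g * (x : Ω) * g⁻¹, hm⟩ (e ▸ hz'), hx x hm,
        th_conj θ (hTS hhT) (apply_mem hφF x)]
    have hQle : Q ≤ preimageAlong θ (extender T' (imageAlong θ Q) φ') := hQN.trans hle
    have hQok : Ok θ Z D Q := by
      obtain ⟨η, hη, hηr, -, -⟩ := exists_inverse hφF hr
      exact hηr ▸ c.ok_map hP hη
    haveI := finite_of_le hQS
    obtain ⟨u, hu⟩ := c.inner_of_same (c.uniq 0) hQok Nat.card_pos
      (c.gen_restrict hχ hQle (χ := χ.comp (Subgroup.inclusion hQle)) fun _ => rfl) hφ fun x => by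
        refine (hj (Subgroup.inclusion hQle x) (mem_pre.mp (hQle x.2)).2).symm.trans ?_
        refine (hψ'x (th θ x) (th_mem_img hQS x.2) _).trans (hi x _)
    set χN := χ.comp (Subgroup.inclusion hle) with hχN
    have huN : ∀ y : N, conjHom N (u : Ω) y ∈ N := fun y =>
      N.mul_mem (N.mul_mem (hQN u.2) y.2) (N.inv_mem (hQN u.2))
    refine ⟨χN.comp ((conjHom N (u : Ω)).codRestrict N huN), Gen0.comp
      (Gen0.conj hNT _ (hQT u.2)) (c.gen_restrict hχ hle fun _ => rfl) huN, fun x hxQ hxN => ?_⟩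
    rw [hu ⟨x, hxQ⟩]
    exact congrArg χ (Subtype.ext rfl)

/-- The generated system is saturated. -/
theorem d0_isSaturated : (d0 c).IsSaturated p := by
  haveI := c.finS
  haveI := finite_of_le c.tle
  set T := preimageAlong θ T' with hTdef
  have hTS : T ≤ S := preimageAlong_le θ T'
  haveI := finite_of_le hTS
  have hTp := isPGroup_of_le c.isP hTS
  refine isSaturated_of_family hTp (d0 c) {P | Ok θ Z D P} ?_ ?_ (c.d0_gen) ?_
  · rintro P hP Q ⟨φ, hφ, rfl⟩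
    exact c.ok_map hP (c.gen_mem hφ)
  · intro P hP
    obtain ⟨U₀, hU₀, hfull⟩ := exists_isFullyNormalized D (c.img_le_T hP.leT)
    obtain ⟨φ', hφ', hr'⟩ := hU₀
    obtain ⟨φ, hφ, hi⟩ := c.exists_gen_lift hφ'
    have hle : P ≤ preimageAlong θ (imageAlong θ P) := (c.pre_img hP.leS hP.zle).ge
    have hG : Gen0 F θ Z D p P (φ.comp (Subgroup.inclusion hle)) :=
      c.gen_restrict hφ hle fun _ => rfl
    have hr : (φ.comp (Subgroup.inclusion hle)).range = preimageAlong θ U₀ := by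
      rw [c.range_eq_pre hP.zle (c.gen_mem hG)
        (φ' := φ') (fun x h => hi (Subgroup.inclusion hle x) h), hr']
    have hQ : Ok θ Z D (preimageAlong θ U₀) := hr ▸ c.ok_map hP (c.gen_mem hG)
    obtain ⟨h1, h2⟩ := c.d0_good hQ (by rw [c.img_pre (hfull.1.trans c.tle)]; exact hfull)
    exact ⟨_, ⟨_, hG, hr⟩, h1, h2⟩
  · intro P hP hPok
    have hPS : P ≤ S := hP.1.trans hTS
    have hZP : Z ≤ P := fun z hz => hP.2 P (isConj_refl (d0 c) hP.1)
      ⟨c.zle_pre hz, fun x hx => c.zcomm hz (hPS hx)⟩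
    have hnc : ¬ D.IsCentric (imageAlong θ P) := fun h => hPok ⟨hZP, hP.1, h⟩
    obtain ⟨U₁, hU₁, hU₁c⟩ : ∃ U₁, D.IsConj (imageAlong θ P) U₁ ∧
        ¬ centralizerIn T' U₁ ≤ U₁ := by
      by_contra h
      refine hnc ⟨c.img_le_T hP.1, fun U₁ hU₁ => ?_⟩
      by_contra h'
      exact h ⟨U₁, hU₁, h'⟩
    obtain ⟨y, hy, hyU⟩ := SetLike.not_le_iff_exists.mp hU₁c
    obtain ⟨φ', hφ', hr'⟩ := hU₁
    obtain ⟨φ, hφ, hi⟩ := c.exists_gen_lift hφ'
    have hle : P ≤ preimageAlong θ (imageAlong θ P) := (c.pre_img hPS hZP).ge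
    have hG : Gen0 F θ Z D p P (φ.comp (Subgroup.inclusion hle)) :=
      c.gen_restrict hφ hle fun _ => rfl
    have hi' : Ind θ (φ.comp (Subgroup.inclusion hle)) φ' :=
      fun x h => hi (Subgroup.inclusion hle x) h
    set P₁ := (φ.comp (Subgroup.inclusion hle)).range with hP₁def
    have hP₁ : P₁ ≤ T := by
      rintro _ ⟨x, rfl⟩
      exact c.gen_apply_mem hG x
    have hP₁S : P₁ ≤ S := hP₁.trans hTS
    have hZ₁ : Z ≤ P₁ := c.z_le_range hZP (c.gen_mem hG)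
    have himg : imageAlong θ P₁ = U₁ := by rw [hP₁def, c.ind_range (c.gen_mem hG) hi', hr']
    have hyn : y ∈ Subgroup.normalizer (imageAlong θ P₁ : Set Γ) :=
      himg.symm ▸ CfsgLib.FusionBasics.centralizer_le_normalizer U₁ hy.2
    obtain ⟨t, ht, hn, hty⟩ := c.exists_th_normalizer hP₁S hZ₁ hy.1 hyn
    refine ⟨P₁, ⟨_, hG, rfl⟩, fun hle' => hyU ?_⟩
    haveI := finite_of_le hP₁S
    haveI := finite_autGroup (d0 c) hP₁
    set a := conjAut P₁ t hn with ha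
    have haD : a ∈ (d0 c).autGroup P₁ := autInducedBy_le_autGroup (d0 c) hP₁ (conjAut_mem ht hn)
    have hak : a ∈ kerA F θ P₁ := by
      refine ⟨autInducedBy_le_autGroup F hP₁S (conjAut_mem (hTS ht) hn), fun x => ?_⟩
      rw [ha, conjAut_apply, th_conj θ (hTS ht) (hP₁S x.2), hty,
        mul_inv_eq_iff_eq_mul]
      exact (hy.2 _ (himg ▸ th_mem_img hP₁S x.2)).symm
    have hcore : a ∈ autCore (d0 c) p P₁ := by
      refine ⟨⟨a, haD⟩, le_sSup (show _ ∈ {N : Subgroup ((d0 c).autGroup P₁) |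
        N.Normal ∧ IsPGroup p N} from ⟨?_, ?_⟩) (show ⟨a, haD⟩ ∈
          (kerA F θ P₁).subgroupOf ((d0 c).autGroup P₁) from hak), rfl⟩
      · refine ⟨fun k hk g => ?_⟩
        have hg : ((g : MulAut P₁)) ∈ F.autGroup P₁ := (mem_autGroup_iff F hP₁S).mpr
          (c.gen_mem ((mem_autGroup_iff (d0 c) hP₁).mp g.2))
        exact c.kerA_conj hP₁S hg hk
      · exact (c.isPGroup_kerA hP₁S).comap_of_injective _ Subtype.val_injective
    obtain ⟨u, hu⟩ := hle' ⟨conjAut_mem ht hn, hcore⟩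
    have hcent : (u : Ω)⁻¹ * t ∈ centralizerIn T P₁ := by
      refine ⟨mul_mem (T.inv_mem (hP₁ u.2)) ht, fun x hx => ?_⟩
      have h := congrArg (fun f : MulAut P₁ => ((f ⟨x, hx⟩ : P₁) : Ω)) hu
      change (u : Ω) * x * (u : Ω)⁻¹ = t * x * t⁻¹ at h
      calc x * ((u : Ω)⁻¹ * t) = (u : Ω)⁻¹ * ((u : Ω) * x * (u : Ω)⁻¹) * t := by group
        _ = (u : Ω)⁻¹ * (t * x * t⁻¹) * t := by rw [h]
        _ = (u : Ω)⁻¹ * t * x := by group
    have htP : t ∈ P₁ := by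
      have := P₁.mul_mem u.2 (hP.2 P₁ ⟨_, hG, rfl⟩ hcent)
      rwa [mul_inv_cancel_left] at this
    rw [← himg, ← hty]
    exact th_mem_img hP₁S htP

/-- `Aut_F(T)` carries generated maps to generated maps. -/
theorem d0_inv : InvCond (d0 c) F := by
  intro P hPT φ hφ α hα
  change Gen0 F θ Z D p P φ at hφ
  have hTS : preimageAlong θ T' ≤ S := preimageAlong_le θ T'
  have hαF := (mem_autGroup_iff F hTS).mp hα
  induction hφ with
  | @base P R hR hPR β hβ =>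
    set η := ((preimageAlong θ T').subtype.comp α.toMonoidHom).comp (Subgroup.inclusion hR.leT)
      with hη
    have hηF : η ∈ F.Hom R := restrict_mem hαF hR.leT
    have hle : (P.subgroupOf (preimageAlong θ T')).map
        ((preimageAlong θ T').subtype.comp α.toMonoidHom) ≤ η.range := by
      rintro _ ⟨x, hx, rfl⟩
      exact ⟨⟨x, hPR hx⟩, rfl⟩
    refine ⟨_, Gen0.base (c.ok_map hR hηF) hle _ (c.pLift_congr hR.leT hηF rfl hβ),
      fun x hφx hαx => ?_⟩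
    exact congr_isoOfHom_apply η (F.injective_of_mem hηF) rfl β (Subgroup.inclusion hPR x)
      ⟨_, rfl⟩
  | @conj P hP t ht =>
    refine ⟨conjHom _ ((α ⟨t, ht⟩ : preimageAlong θ T') : Ω), Gen0.conj (by
      rintro _ ⟨x, hx, rfl⟩
      exact (α x).2) _ (α _).2, fun x hφx hαx => ?_⟩
    show ((α ⟨t, ht⟩ : preimageAlong θ T') : Ω) * ((α ⟨x, _⟩ : preimageAlong θ T') : Ω) *
      (((α ⟨t, ht⟩ : preimageAlong θ T') : Ω))⁻¹ = _
    rw [← Subgroup.coe_inv, ← Subgroup.coe_mul, ← Subgroup.coe_mul, ← map_inv, ← map_mul,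
      ← map_mul]
    rfl
  | @comp P Q φ ψ h₁ h₂ h ih₁ ih₂ =>
    obtain ⟨χ₁, hχ₁, hx₁⟩ := ih₁ hPT
    obtain ⟨χ₂, hχ₂, hx₂⟩ := ih₂ (c.gen_le h₂)
    have hm : ∀ y, χ₁ y ∈ (Q.subgroupOf (preimageAlong θ T')).map
        ((preimageAlong θ T').subtype.comp α.toMonoidHom) := by
      rintro ⟨_, ⟨x, hxT⟩, hxP, rfl⟩
      exact ⟨⟨φ ⟨x, hxP⟩, c.gen_apply_mem h₁ _⟩, h _,
        (hx₁ ⟨x, hxP⟩ (c.gen_apply_mem h₁ _) ⟨⟨x, hxT⟩, hxP, rfl⟩).symm⟩
    refine ⟨_, Gen0.comp hχ₁ hχ₂ hm, fun x hφx hαx => ?_⟩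
    refine Eq.trans (congrArg χ₂ (Subtype.ext ?_))
      (hx₂ ⟨φ x, h x⟩ hφx ⟨⟨φ x, c.gen_apply_mem h₁ x⟩, h x, rfl⟩)
    exact hx₁ x (c.gen_apply_mem h₁ x) hαx

/-- The Frattini condition. -/
theorem d0_frattini : ∀ (P : Subgroup Ω), P ≤ preimageAlong θ T' → ∀ φ : P →* Ω, φ ∈ F.Hom P →
    Decomp (d0 c) F P φ := by
  haveI := c.finS
  set T := preimageAlong θ T' with hTdef
  have hTS : T ≤ S := preimageAlong_le θ T'
  haveI := finite_of_le hTS
  refine frattini_of_aut c.isP c.sat c.d0_inv c.tclosed fun Q hQT hQn big α hα => ?_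
  have hQS := hQn.1
  haveI := finite_of_le hQS
  have hαF := (mem_autGroup_iff F hQS).mp hα
  by_cases hZQ : Z ≤ Q
  swap
  · obtain ⟨ψ, hψ, hψx, -⟩ := c.central.2 Q _ hαF
    have hle : Q ⊔ Z ≤ T := sup_le hQT c.zle_pre
    exact restrict_mem_apply (big _ hle (card_lt_card (hle.trans hTS)
      (lt_of_le_of_ne le_sup_left fun h => hZQ (le_sup_right.trans h.ge))) ψ hψ) le_sup_left
      fun x => (hψx x).symm
  have hUT := c.img_le_T (θ := θ) hQT
  obtain ⟨α', hα'E, hiα⟩ := c.exists_autInd hQS hα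
  obtain ⟨a', ha', φ₀', hφ₀', hdec⟩ := c.nrm.1.2.2.2.2.2 _ hUT _
    ((mem_autGroup_iff E (c.img_le Q)).mp hα'E)
  obtain ⟨a, ha, hax⟩ := exists_lift_aut c.zclosed c.fac c.tle ha'
  obtain ⟨φ₀, hφ₀, hi₀⟩ := c.exists_gen_lift hφ₀'
  have hle : Q ≤ preimageAlong θ (imageAlong θ Q) := (c.pre_img hQS hZQ).ge
  set φ₁ := φ₀.comp (Subgroup.inclusion hle) with hφ₁
  have hφ₁G : Gen0 F θ Z D p Q φ₁ := c.gen_restrict hφ₀ hle fun _ => rfl
  have hφ₁T : ∀ x, φ₁ x ∈ T := c.gen_apply_mem hφ₁G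
  set g : Q →* Ω := (T.subtype.comp a.toMonoidHom).comp (φ₁.codRestrict T hφ₁T) with hg
  have hgF : g ∈ F.Hom Q :=
    F.comp_mem (c.gen_mem hφ₁G) ((mem_autGroup_iff F hTS).mp ha) hφ₁T
  have hgth : ∀ x : Q, th θ (g x) = th θ ((α x : Q) : Ω) := fun x => by
    have hxU : th θ (x : Ω) ∈ imageAlong θ Q := th_mem_img hQS x.2
    have h1 := hi₀ (Subgroup.inclusion hle x) hxU
    have hT2 : φ₀' ⟨th θ x, hxU⟩ ∈ T' := apply_mem hφ₀' _
    have h3 : φ₀' ⟨th θ x, hxU⟩ = θ ⟨φ₁ x, hTS (hφ₁T x)⟩ := h1.trans (th_eq θ (hTS (hφ₁T x)))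
    have h4 := hax ⟨φ₁ x, hφ₁T x⟩ (show θ ⟨φ₁ x, hTS (hφ₁T x)⟩ ∈ T' from h3 ▸ hT2)
    refine Eq.trans ?_ (hiα x hxU)
    refine Eq.trans ?_ (hdec ⟨th θ x, hxU⟩ hT2).symm
    refine Eq.trans ?_ (congrArg (fun v => ((a' v : T') : Γ))
      (Subtype.ext h3 : (⟨φ₀' ⟨th θ x, hxU⟩, hT2⟩ : T') =
        ⟨θ ⟨φ₁ x, hTS (hφ₁T x)⟩, h3 ▸ hT2⟩)).symm
    refine Eq.trans ?_ h4.symm
    exact th_eq θ (hTS (a ⟨φ₁ x, hφ₁T x⟩).2)
  obtain ⟨γ, hγ, hγx⟩ := exists_aut_of_hom' F hgF fun x => by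
    refine (c.pre_img hQS hZQ).le (mem_pre.mpr ⟨apply_mem hgF x, ?_⟩)
    rw [hgth]
    exact th_mem_img hQS (α x).2
  have hk : γ⁻¹ * α ∈ kerA F θ Q := by
    refine ⟨mul_mem (inv_mem hγ) hα, fun x => ?_⟩
    refine c.th_eq_of_map hgF ((γ⁻¹ * α) x) x ?_
    rw [← hγx, MulAut.mul_apply, MulAut.apply_inv_self, hgth]
  obtain ⟨s, hs, hsx⟩ := mem_autInducedBy_iff.mp (c.kerA_le_autInducedBy hQn hk)
  have hsN : s ∈ Subgroup.normalizer (T : Set Ω) := stronglyClosed_le_normalizer c.tclosed hs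
  have hd1 : conjHom Q s ∈ (frattiniSystem (d0 c) F c.d0_inv).Hom Q :=
    ⟨conjAut T s hsN, autInducedBy_le_autGroup F hTS (conjAut_mem hs hsN), Q.subtype,
      Gen0.incl hQT, fun x hx => rfl⟩
  have hd2 : g ∈ (frattiniSystem (d0 c) F c.d0_inv).Hom Q :=
    ⟨a, ha, φ₁, hφ₁G, fun x hx => rfl⟩
  have hm : ∀ x : Q, conjHom Q s x ∈ Q := fun x => by
    rw [conjHom_apply, ← hsx]
    exact Subtype.mem _
  refine comp_mem_apply hd1 hd2 hm fun x => ?_
  show ((α x : Q) : Ω) = g ⟨conjHom Q s x, hm x⟩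
  rw [show (⟨conjHom Q s x, hm x⟩ : Q) = (γ⁻¹ * α) x from Subtype.ext (hsx x).symm, ← hγx,
    MulAut.mul_apply, MulAut.apply_inv_self]

end LCtx

/-- A normal subsystem of the factor system modulo a central subgroup lifts to a weakly normal
subsystem over the preimage. -/
theorem exists_weaklyNormal_lift (c : LCtx F Z θ E D p) :
    ∃ D₀ : FusionSystem (preimageAlong θ T'), D₀.IsWeaklyNormalIn F p ∧
      ∀ (P : Subgroup Ω) (φ : P →* Ω), φ ∈ D₀.Hom P →
        ∃ φ' ∈ D.Hom (imageAlong θ P), InducedAlong θ φ φ' := by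
  refine ⟨d0 c, ⟨c.d0_isSaturated, c.sat, fun P φ h => c.gen_mem h, c.tclosed, c.d0_inv,
    c.d0_frattini⟩, fun P φ h => ?_⟩
  obtain ⟨hF, φ', hφ', hi⟩ := c.gen_indD h
  have hP := dom_le hF
  refine ⟨φ', hφ', hP, apply_mem hF, fun x => ⟨⟨x, hP x.2⟩, x.2, rfl⟩, fun x => ?_⟩
  have e : th θ (x : Ω) = θ ⟨x, hP x.2⟩ := th_eq θ (hP x.2)
  refine Eq.trans ?_ ((hi x (e ▸ ⟨⟨x, hP x.2⟩, x.2, rfl⟩)).trans (th_eq θ (apply_mem hF x)))
  exact congrArg φ' (Subtype.ext e.symm)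

end CfsgLib.FusionLifting
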