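import Cfsg.Agent.Lib.FusionSub.CoreCentralizerSystem
import Cfsg.Agent.Lib.FusionSub.CoreComponent
import Cfsg.Agent.Lib.FusionSub.Solvable
import Cfsg.Agent.Lib.Alperin.Terminating
import Cfsg.Agent.Lib.Alperin.PPrimeSystem
import Cfsg.Agent.S5141
import Cfsg.Agent.S5148
import Cfsg.Agent.Lib.FusionLifting.System

/-!
A saturated system without components is constrained.
-/

set_option autoImplicit false
set_option linter.style.haveILetI false
set_option linter.unusedSectionVars false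

namespace CfsgLib.FusionComponents

open Cfsg Cfsg.FusionSystem CfsgLib.Alperin CfsgLib.FusionSub CfsgLib.FusionBasics

universe u

variable {Ω : Type u} [Group Ω] {p : ℕ} [Fact p.Prime]

theorem not_component_of_constrained {S U : Subgroup Ω} [Finite S] (hS : IsPGroup p S)
    {F : FusionSystem S} (hc : F.IsConstrained p) {C : FusionSystem U}
    (hC : C.IsComponentIn F p) : False := by
  obtain ⟨-, Q, hQ, hQc⟩ := hc
  obtain ⟨hsub, hq⟩ := hC
  have hUS : U ≤ S := subsystem_le (CoreComponent.subnormal_isSubsystemOf hsub)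
  haveI := finite_of_le hUS
  obtain ⟨hUQ, -⟩ := CoreComponent.component_fix hsub hq hS Q hQ
  have hle : U ≤ Q := fun u hu => hQc.2 Q (isConj_refl F hQ.1) ⟨hUS hu, hUQ hu⟩
  refine Cfsg.Agent.S5148.result p (isPGroup_of_le hS hUS) C hq ⟨⟨fun a b => Subtype.ext ?_⟩⟩
  exact (hUQ a.2 b (hle b.2)).symm

theorem isNormal_of_isCentral {S Q : Subgroup Ω} {F : FusionSystem S} (hQ : F.IsCentral Q) :
    F.IsNormal Q := by
  refine ⟨hQ.1, fun P φ hφ => ?_⟩
  obtain ⟨ψ, hψ, hψx, hψQ⟩ := hQ.2 P φ hφ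
  refine ⟨ψ, hψ, hψx, le_antisymm ?_ fun q hq => ⟨⟨q, Subgroup.mem_sup_right hq⟩, hq, hψQ ⟨q, hq⟩⟩⟩
  rintro _ ⟨x, hx, rfl⟩
  have h : ψ x = (x : Ω) := (congrArg ψ (Subtype.ext rfl)).trans (hψQ ⟨x, hx⟩)
  rw [h]
  exact hx

/-- A weakly normal subsystem over the same subgroup has index prime to `p`. -/
theorem index_of_weaklyNormal_top {S : Subgroup Ω} [Finite S] (hS : IsPGroup p S)
    {F D : FusionSystem S} (hD : D.IsWeaklyNormalIn F p) : D.HasPrimeToPIndexIn F p := by
  refine ⟨hD.2.2.1, fun P hP => ?_⟩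
  rw [MonoidHom.map_closure]
  refine (Subgroup.closure_le _).mpr ?_
  rintro _ ⟨α, ⟨k, hk⟩, rfl⟩
  exact pElement_mem_of_invariant hS hD.2.1 (fun _ _ h => h) hD.2.2 hP α.2
    (k := k) (congrArg Subtype.val (hk ▸ pow_orderOf_eq_one α : α ^ p ^ k = 1))

/-- A system equal to its `p'`-residual lies in every weakly normal subsystem over `S`. -/
theorem le_of_residual {S T : Subgroup Ω} [Finite S] (hS : IsPGroup p S) {F : FusionSystem S}
    (hres : F.IsPPrimeResidual p F) {D : FusionSystem T} (hT : T = S)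
    (hD : D.IsWeaklyNormalIn F p) {P : Subgroup Ω} {φ : P →* Ω} (hφ : φ ∈ F.Hom P) :
    φ ∈ D.Hom P := by
  subst hT
  exact hres.2.2 D hD.1 (index_of_weaklyNormal_top hS hD) P hφ

/-- The statement used for the factor system modulo a central subgroup. -/
theorem lift {S : Subgroup Ω} [Finite S] (hS : IsPGroup p S) {F : FusionSystem S}
    (hF : F.IsSaturated p) {Z : Subgroup Ω} (hZ : F.IsCentral Z) {Γ : Type u} [Group Γ]
    {S' : Subgroup Γ} {θ : S →* Γ} {E : FusionSystem S'} (hE : F.IsFactorSystem Z θ E)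
    {T' : Subgroup Γ} {D' : FusionSystem T'} (hD : D'.IsNormalIn E p) :
    ∃ D₀ : FusionSystem (preimageAlong θ T'), D₀.IsWeaklyNormalIn F p ∧
      ∀ (P : Subgroup Ω) (φ : P →* Ω), φ ∈ D₀.Hom P →
        ∃ φ' ∈ D'.Hom (imageAlong θ P), InducedAlong θ φ φ' := by
  exact CfsgLib.FusionLifting.exists_weaklyNormal_lift ⟨hS, hF, hZ, hE, hD⟩

theorem no_component_of_normal {S T : Subgroup Ω} {F : FusionSystem S} {D : FusionSystem T}
    (hD : D.IsNormalIn F p) (hno : ¬ ∃ (U : Subgroup Ω) (C : FusionSystem U), C.IsComponentIn F p) :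
    ¬ ∃ (U : Subgroup Ω) (C : FusionSystem U), C.IsComponentIn D p :=
  fun ⟨U, C, hC, hq⟩ => hno ⟨U, C, .step hC hD, hq⟩

/-- The inductive hypothesis. -/
def Below (p : ℕ) (Ω : Type u) [Group Ω] (n : ℕ) : Prop :=
  ∀ (T : Subgroup Ω) [Finite T], Nat.card T < n → IsPGroup p T → ∀ D : FusionSystem T,
    D.IsSaturated p → (¬ ∃ (U : Subgroup Ω) (C : FusionSystem U), C.IsComponentIn D p) →
      D.IsConstrained p

/-- The step at a system equal to its `p'`-residual. -/
theorem constrained_of_residual {S : Subgroup Ω} [Finite S] (hS : IsPGroup p S)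
    {F : FusionSystem S} (hF : F.IsSaturated p) (hres : F.IsPPrimeResidual p F)
    (ih : Below p Ω (Nat.card S))
    (hno : ¬ ∃ (U : Subgroup Ω) (C : FusionSystem U), C.IsComponentIn F p) :
    F.IsConstrained p := by
  -- `O^p`
  by_cases hhyp : F.hyperfocalSubgroup p = S
  swap
  · have hle := hyperfocal_le F p
    haveI := finite_of_le hle
    obtain ⟨D, hDs, hDi⟩ := PPower.exists_pPowerIndex hS hF hle le_rfl
    have hDn := isNormalIn_pResidual hS hF (D := D) ⟨hDs, hDi⟩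
    exact isConstrained_of_pIndex hS hF hDn le_rfl (ih _
      (card_lt_card le_rfl (lt_of_le_of_ne hle hhyp)) (isPGroup_of_le hS hle) D hDs
      (no_component_of_normal hDn hno))
  have hQ := CfsgLib.FusionExamples.isNormal_core F
  set Q := F.core with hQdef
  by_cases hC : centralizerIn S Q = S
  swap
  · -- the centralizer of the core
    obtain ⟨C, hCs⟩ := exists_centralizerSystem F hQ.1
    have hCn := CoreCentralizer.centralizer_isNormalIn hS hF hQ hCs
    have hle := centralizerIn_le S Q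
    haveI := finite_of_le hle
    have hcon := ih _ (card_lt_card le_rfl (lt_of_le_of_ne hle hC)) (isPGroup_of_le hS hle) C
      hCn.1.1 (no_component_of_normal hCn hno)
    obtain ⟨-, R, hR, hRc⟩ := hcon
    have hRQ : R ≤ Q := (CfsgLib.FusionExamples.isNormal_le_core hR).trans
      (CfsgLib.FusionExamples.isNormal_le_core (core_isNormal hS hF hCn))
    refine ⟨hF, Q, hQ, hQ.1, fun Q₁ hQ₁ => ?_⟩
    rw [CfsgLib.FusionExamples.eq_of_isConj_of_isNormal hQ hQ₁]
    intro y hy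
    refine hRQ (hRc.2 R (isConj_refl C hR.1) ⟨hy, fun r hr => ?_⟩)
    exact (hy.2 r (hRQ hr) :)
  have hSQ : S ≤ Subgroup.centralizer (Q : Set Ω) := fun s hs => (hC.ge hs).2
  by_cases hQS : Q = S
  · have h := isCentric_top F
    exact ⟨hF, Q, hQ, by rw [show Q = S from hQS]; exact h⟩
  -- the core is central
  have hcent : F.IsCentral Q := by
    obtain ⟨C, hCs⟩ := exists_centralizerSystem F hQ.1
    have hCn := CoreCentralizer.centralizer_isNormalIn hS hF hQ hCs
    refine ⟨hQ.1, fun P φ hφ => ?_⟩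
    have h := le_of_residual hS hres hC hCn.1 hφ
    rw [hCs P] at h
    exact h.2.2.2
  have hQc : F.center = Q := le_antisymm
    (CfsgLib.FusionExamples.isNormal_le_core
      (isNormal_of_isCentral (CfsgLib.FusionExamples.isCentral_center F)))
    (CfsgLib.FusionExamples.isCentral_le_center hcent)
  refine absurd ⟨S, F, .refl F p, hF, hhyp, fun E hE => ?_⟩ hno
  set θ := QuotientGroup.mk' ((F.center).subgroupOf S) with hθ
  have hZc : F.IsCentral F.center := CfsgLib.FusionExamples.isCentral_center F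
  have hEs := factor_saturated hS hF (isNormal_stronglyClosed (isNormal_of_isCentral hZc)) hE
  have hlt : Q < S := lt_of_le_of_ne hQ.1 hQS
  refine ⟨hEs, fun htop => hlt.not_ge fun s hs => ?_, fun T' D' hD' => ?_⟩
  · have h1 : θ ⟨s, hs⟩ ∈ (⊤ : Subgroup (↥S ⧸ (F.center).subgroupOf S)) := Subgroup.mem_top _
    rw [htop, Subgroup.mem_bot] at h1
    exact hQc ▸ (hE.2.1 ⟨s, hs⟩).mp h1
  by_cases hT' : T' = ⊥
  · exact Or.inl hT'
  right
  set T := preimageAlong θ T' with hTdef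
  obtain ⟨D₀, hD₀, hind⟩ : ∃ D₀ : FusionSystem T, D₀.IsWeaklyNormalIn F p ∧
      ∀ (P : Subgroup Ω) (φ : P →* Ω), φ ∈ D₀.Hom P →
        ∃ φ' ∈ D'.Hom (imageAlong θ P), InducedAlong θ φ φ' := lift hS hF hZc hE hD'
  have hTS : T ≤ S := preimageAlong_le θ T'
  haveI := finite_of_le hTS
  have hTp := isPGroup_of_le hS hTS
  have hTT : T = S → T' = ⊤ := fun h => (Subgroup.eq_top_iff' T').mpr fun y => by
    obtain ⟨s, rfl⟩ := QuotientGroup.mk'_surjective _ y
    obtain ⟨_, h'⟩ := mem_preimageAlong.mp (h.ge s.2)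
    exact h'
  by_cases hTeq : T = S
  swap
  · exfalso
    obtain ⟨D₁, hD₁⟩ := exists_isPPrimeResidual (F := D₀) hTp hD₀.1
    have hD₁n := Cfsg.Agent.S5141.result p hS F hF D₀ hD₀ D₁ hD₁
    obtain ⟨-, R, hR, hRc⟩ := ih _ (card_lt_card le_rfl (lt_of_le_of_ne hTS hTeq)) hTp D₁ hD₁.1
      (no_component_of_normal hD₁n hno)
    have hRQ : R ≤ Q := (CfsgLib.FusionExamples.isNormal_le_core hR).trans
      (CfsgLib.FusionExamples.isNormal_le_core (core_isNormal hS hF hD₁n))
    refine hT' ((Subgroup.eq_bot_iff_forall _).mpr fun y hy => ?_)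
    obtain ⟨s, rfl⟩ := QuotientGroup.mk'_surjective _ y
    have hsT : (s : Ω) ∈ T := mem_preimageAlong.mpr ⟨s.2, hy⟩
    refine (hE.2.1 s).mpr (hQc ▸ hRQ (hRc.2 R (isConj_refl D₁ hR.1) ⟨hsT, fun r hr => ?_⟩))
    exact (hSQ s.2 r (hRQ hr) :)
  have hT'top := hTT hTeq
  refine ⟨hT'top, fun P' => Set.Subset.antisymm (fun φ' h => hD'.1.2.2.1 P' h) fun φ' h => ?_⟩
  obtain ⟨-, φ, hφ, hP, hφS, hPP, hx⟩ := (hE.2.2.2 P' φ').mp h
  obtain ⟨φ'', hφ'', _, _, hPP', hx'⟩ := hind _ φ (le_of_residual hS hres hTeq hD₀ hφ)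
  have hle : P' ≤ imageAlong θ (preimageAlong θ P') := fun y hy => by
    obtain ⟨s, rfl⟩ := QuotientGroup.mk'_surjective _ y
    exact ⟨s, mem_preimageAlong.mpr ⟨s.2, hy⟩, rfl⟩
  refine restrict_mem_apply hφ'' hle fun y => ?_
  obtain ⟨s, hs⟩ := QuotientGroup.mk'_surjective _ (y : ↥S ⧸ (F.center).subgroupOf S)
  have hsP : (s : Ω) ∈ preimageAlong θ P' := mem_preimageAlong.mpr ⟨s.2, by
    have := y.2
    rw [← hs] at this
    exact this⟩
  have h1 := (hx ⟨s, hsP⟩).trans (hx' ⟨s, hsP⟩).symm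
  refine ((congrArg φ' (Subtype.ext hs.symm)).trans h1).trans (congrArg φ'' (Subtype.ext hs))

theorem constrained_of_no_component : ∀ (n : ℕ) (S : Subgroup Ω) [Finite S], Nat.card S = n →
    IsPGroup p S → ∀ F : FusionSystem S, F.IsSaturated p →
      (¬ ∃ (U : Subgroup Ω) (C : FusionSystem U), C.IsComponentIn F p) → F.IsConstrained p := by
  intro n
  induction n using Nat.strong_induction_on with
  | _ n ih =>
  intro S _ hn hS F hF hno
  subst hn
  obtain ⟨E, hE⟩ := exists_isPPrimeResidual (F := F) hS hF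
  have hEn := Cfsg.Agent.S5141.result p hS F hF F (isWeaklyNormalIn_self hF) E hE
  have hres : E.IsPPrimeResidual p E := by
    refine ⟨hE.1, ⟨fun _ _ h => h, fun P hP => Subgroup.map_subtype_le _⟩, fun D hDs hDi => ?_⟩
    refine hE.2.2 D hDs ⟨fun P φ h => hE.2.1.1 P (hDi.1 P h), fun P hP => ?_⟩
    rw [MonoidHom.map_closure]
    refine (Subgroup.closure_le _).mpr ?_
    rintro _ ⟨α, ⟨k, hk⟩, rfl⟩
    have hαE : (α : MulAut P) ∈ E.autGroup P :=
      hE.2.1.2 P hP ⟨α, Subgroup.subset_closure ⟨k, hk⟩, rfl⟩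
    refine hDi.2 P hP ⟨⟨α, hαE⟩, Subgroup.subset_closure ⟨k, ?_⟩, rfl⟩
    show orderOf (⟨(α : MulAut P), hαE⟩ : E.autGroup P) = p ^ k
    rw [Subgroup.orderOf_mk, Subgroup.orderOf_coe, hk]
  exact isConstrained_of_index hF hEn (constrained_of_residual hS hE.1 hres
    (fun T _ hlt hT D hD h => ih _ hlt T rfl hT D hD h) (no_component_of_normal hEn hno))

end CfsgLib.FusionComponents
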