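import Cfsg.Agent.Lib.FusionLifting.Kernel
import Cfsg.Agent.Lib.FusionBasics.Extension

/-!
The system generated by the lifts of order prime to `p` and the conjugations by elements of the
preimage of `T'`; every map of `D` has a lift in it.
-/

set_option autoImplicit false
set_option linter.style.haveILetI false
set_option linter.unusedSectionVars false

namespace CfsgLib.FusionLifting

open Cfsg Cfsg.FusionSystem CfsgLib.Alperin CfsgLib.FusionSub CfsgLib.FusionBasics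

universe u v

variable {Ω : Type u} [Group Ω] {Γ : Type v} [Group Γ] {S Z : Subgroup Ω} {S' T' : Subgroup Γ}
  {F : FusionSystem S} {θ : S →* Γ} {E : FusionSystem S'} {D : FusionSystem T'} {p : ℕ}
  [Fact p.Prime] [Finite S]

/-- Composites of restrictions of lifts of order prime to `p` and conjugations. -/
inductive Gen0 (F : FusionSystem S) (θ : S →* Γ) (Z : Subgroup Ω) (D : FusionSystem T') (p : ℕ) :
    ∀ P : Subgroup Ω, (P →* Ω) → Prop
  | base {P R : Subgroup Ω} (hR : Ok θ Z D R) (hPR : P ≤ R) (β : MulAut R)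
      (hβ : PLift F θ D p R β) :
      Gen0 F θ Z D p P ((R.subtype.comp β.toMonoidHom).comp (Subgroup.inclusion hPR))
  | conj {P : Subgroup Ω} (hP : P ≤ preimageAlong θ T') (t : Ω) (ht : t ∈ preimageAlong θ T') :
      Gen0 F θ Z D p P (conjHom P t)
  | comp {P Q : Subgroup Ω} {φ : P →* Ω} {ψ : Q →* Ω} (h₁ : Gen0 F θ Z D p P φ)
      (h₂ : Gen0 F θ Z D p Q ψ) (h : ∀ x : P, φ x ∈ Q) :
      Gen0 F θ Z D p P (ψ.comp (φ.codRestrict Q h))

theorem Gen0.congr {P : Subgroup Ω} {φ χ : P →* Ω} (h : Gen0 F θ Z D p P φ)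
    (hx : ∀ x, χ x = φ x) : Gen0 F θ Z D p P χ := by
  rwa [MonoidHom.ext hx]

theorem Gen0.comp_apply {P Q : Subgroup Ω} {φ : P →* Ω} {ψ : Q →* Ω} {χ : P →* Ω}
    (h₁ : Gen0 F θ Z D p P φ) (h₂ : Gen0 F θ Z D p Q ψ) (h : ∀ x : P, φ x ∈ Q)
    (hx : ∀ x, χ x = ψ ⟨φ x, h x⟩) : Gen0 F θ Z D p P χ :=
  (Gen0.comp h₁ h₂ h).congr hx

theorem Gen0.incl {P : Subgroup Ω} (hP : P ≤ preimageAlong θ T') : Gen0 F θ Z D p P P.subtype :=
  (Gen0.conj hP 1 (one_mem _)).congr fun x => by simp [conjHom_apply]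

theorem pLift_inv {P : Subgroup Ω} (c : LCtx F Z θ E D p) (hP : P ≤ preimageAlong θ T')
    {β : MulAut P} (hβ : PLift F θ D p P β) : PLift F θ D p P β⁻¹ := by
  obtain ⟨h1, h2⟩ := (c.mem_hatA hP).mp (inv_mem ((c.mem_hatA hP).mpr ⟨hβ.1, hβ.2.2⟩))
  exact ⟨h1, by rw [orderOf_inv]; exact hβ.2.1, h2⟩

namespace LCtx

variable (c : LCtx F Z θ E D p)
include c

theorem gen_indD {P : Subgroup Ω} {φ : P →* Ω} (h : Gen0 F θ Z D p P φ) : IndD F θ D P φ := by
  induction h with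
  | base hR hPR β hβ => exact c.indD_restrict hβ.2.2 hPR fun _ => rfl
  | conj hP t ht => exact c.indD_conj hP ht
  | comp _ _ h ih₁ ih₂ => exact c.indD_comp ih₁ ih₂ h fun _ => rfl

theorem gen_mem {P : Subgroup Ω} {φ : P →* Ω} (h : Gen0 F θ Z D p P φ) : φ ∈ F.Hom P :=
  (c.gen_indD h).mem

theorem gen_le {P : Subgroup Ω} {φ : P →* Ω} (h : Gen0 F θ Z D p P φ) :
    P ≤ preimageAlong θ T' := c.IndD_le (c.gen_indD h)

theorem gen_apply_mem {P : Subgroup Ω} {φ : P →* Ω} (h : Gen0 F θ Z D p P φ) (x : P) :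
    φ x ∈ preimageAlong θ T' := c.indD_apply_mem (c.gen_indD h) x

theorem gen_restrict {P Q : Subgroup Ω} {φ : P →* Ω} {χ : Q →* Ω} (h : Gen0 F θ Z D p P φ)
    (hQ : Q ≤ P) (hx : ∀ x : Q, χ x = φ ⟨x, hQ x.2⟩) : Gen0 F θ Z D p Q χ :=
  Gen0.comp_apply (Gen0.incl (hQ.trans (c.gen_le h))) h (fun x => hQ x.2) hx

theorem gen_exists_inv {P : Subgroup Ω} {φ : P →* Ω} (h : Gen0 F θ Z D p P φ) :
    ∃ χ : φ.range →* Ω, Gen0 F θ Z D p φ.range χ ∧ ∀ x : P, χ ⟨φ x, ⟨x, rfl⟩⟩ = x := by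
  induction h with
  | @base P R hR hPR β hβ =>
    have hle : ((R.subtype.comp β.toMonoidHom).comp (Subgroup.inclusion hPR)).range ≤ R := by
      rintro _ ⟨x, rfl⟩
      exact (β _).2
    refine ⟨_, Gen0.base hR hle β⁻¹ (pLift_inv c hR.leT hβ), fun x => ?_⟩
    show ((β⁻¹ (β (Subgroup.inclusion hPR x)) : R) : Ω) = _
    rw [MulAut.inv_apply_self]
    rfl
  | @conj P hP t ht =>
    refine ⟨conjHom _ t⁻¹, Gen0.conj ?_ _ (inv_mem ht), fun x => ?_⟩
    · rintro _ ⟨x, rfl⟩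
      exact mul_mem (mul_mem ht (hP x.2)) (inv_mem ht)
    · show t⁻¹ * (conjHom P t x) * t⁻¹⁻¹ = x
      rw [conjHom_apply]
      group
  | @comp P Q φ ψ h₁ h₂ h ih₁ ih₂ =>
    obtain ⟨θ₁, hθ₁, hx₁⟩ := ih₁
    obtain ⟨θ₂, hθ₂, hx₂⟩ := ih₂
    have hle : (ψ.comp (φ.codRestrict Q h)).range ≤ ψ.range := by
      rintro _ ⟨x, rfl⟩
      exact ⟨_, rfl⟩
    have hm : ∀ y : (ψ.comp (φ.codRestrict Q h)).range,
        (θ₂.comp (Subgroup.inclusion hle)) y ∈ φ.range := by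
      rintro ⟨_, x, rfl⟩
      exact ⟨x, (hx₂ (φ.codRestrict Q h x)).symm⟩
    refine ⟨_, Gen0.comp (c.gen_restrict hθ₂ hle fun _ => rfl) hθ₁ hm, fun x => ?_⟩
    refine Eq.trans (congrArg θ₁ (Subtype.ext ?_)) (hx₁ x)
    exact hx₂ (φ.codRestrict Q h x)

theorem gen_inv {P R : Subgroup Ω} {φ : P →* Ω} (h : Gen0 F θ Z D p P φ) (hr : φ.range = R)
    {χ : R →* Ω} (hx : ∀ (x : P) (h : φ x ∈ R), χ ⟨φ x, h⟩ = x) : Gen0 F θ Z D p R χ := by
  subst hr
  obtain ⟨χ', hχ', hx'⟩ := c.gen_exists_inv h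
  refine hχ'.congr ?_
  rintro ⟨_, x, rfl⟩
  exact (hx x _).trans (hx' x).symm

end LCtx

/-- The generated system. -/
def d0 (c : LCtx F Z θ E D p) : FusionSystem (preimageAlong θ T') where
  Hom P := {φ | Gen0 F θ Z D p P φ}
  le_of_mem h := ⟨c.gen_le h, c.gen_apply_mem h⟩
  injective_of_mem h := F.injective_of_mem (c.gen_mem h)
  conj_mem hP hg := Gen0.conj hP _ hg
  comp_mem h₁ h₂ h := Gen0.comp h₁ h₂ h
  inv_mem h := c.gen_exists_inv h

namespace LCtx

variable (c : LCtx F Z θ E D p)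
include c

theorem ok_of_le {P R : Subgroup Ω} (hP : Ok θ Z D P) (h : P ≤ R) (hR : R ≤ preimageAlong θ T') :
    Ok θ Z D R :=
  ⟨hP.zle.trans h, hR, isCentric_of_le hP.cen (Subgroup.map_mono fun _ hx => h hx) (c.img_le_T hR)⟩

theorem ok_pre {U : Subgroup Γ} (hU : D.IsCentric U) : Ok θ Z D (preimageAlong θ U) :=
  ⟨c.z_le_pre U, pre_mono hU.1, by rw [c.img_pre (hU.1.trans c.tle)]; exact hU⟩

/-- An induced map maps a preimage onto the preimage of its image. -/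
theorem range_eq_pre' {P : Subgroup Ω} (hZP : Z ≤ P) {φ : P →* Ω} (hφ : φ ∈ F.Hom P)
    {P' : Subgroup Γ} (hP' : imageAlong θ P = P') {φ' : P' →* Γ} (h : Ind θ φ φ') :
    φ.range = preimageAlong θ φ'.range := by
  subst hP'
  exact c.range_eq_pre hZP hφ h

theorem exists_pLift' {P : Subgroup Ω} (hP : P ≤ preimageAlong θ T') (hZ : Z ≤ P)
    {U : Subgroup Γ} (hU : imageAlong θ P = U) {β' : MulAut U} (hβ' : β' ∈ D.autGroup U)
    (hco : (orderOf β').Coprime p) :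
    ∃ β, PLift F θ D p P β ∧
      Ind θ (P.subtype.comp β.toMonoidHom) (U.subtype.comp β'.toMonoidHom) := by
  subst hU
  exact c.exists_pLift hP hZ hβ' hco

/-- Every map of `D` has a lift in the generated system. -/
theorem exists_gen_lift {P' : Subgroup Γ} {φ' : P' →* Γ} (hφ' : φ' ∈ D.Hom P') :
    ∃ φ, Gen0 F θ Z D p (preimageAlong θ P') φ ∧ Ind θ φ φ' := by
  haveI := c.finS
  haveI := finite_of_le c.tle
  refine closed_induction_centric (Good := fun P' φ' => ∃ φ, Gen0 F θ Z D p (preimageAlong θ P') φ ∧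
    Ind θ φ φ') (isPGroup_of_le c.isP' c.tle) c.dsat ⟨?_, ?_, ?_⟩ ?_ hφ'
  · rintro P Q φ hQ - ⟨m, hm, hi⟩
    exact ⟨_, c.gen_restrict hm (pre_mono hQ) (χ := m.comp (Subgroup.inclusion (pre_mono hQ)))
      fun _ => rfl, fun x h => hi (Subgroup.inclusion (pre_mono hQ) x) (hQ h)⟩
  · rintro P Q φ ψ - - h ⟨m, hm, hi⟩ ⟨k, hk, hj⟩
    have hmk : ∀ x, m x ∈ preimageAlong θ Q := fun x =>
      mem_pre.mpr ⟨apply_mem (c.gen_mem hm) x, hi x (mem_pre.mp x.2).2 ▸ h _⟩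
    refine ⟨_, Gen0.comp hm hk hmk, fun x hx => ?_⟩
    show ψ ⟨φ ⟨th θ x, hx⟩, h _⟩ = th θ (k ⟨m x, hmk x⟩)
    refine Eq.trans ?_ (hj ⟨m x, hmk x⟩ (show th θ (m x) ∈ Q from (mem_pre.mp (hmk x)).2))
    exact congrArg ψ (Subtype.ext (hi x hx))
  · rintro P Q φ ψ hφ - hr hψ ⟨m, hm, hi⟩
    have hP := dom_le hφ
    have hmr : m.range = preimageAlong θ Q := by
      rw [c.range_eq_pre' (c.z_le_pre P) (c.gen_mem hm) (c.img_pre (hP.trans c.tle)) hi, hr]
    obtain ⟨χ, hχ, -, hχx, -⟩ := exists_inverse (c.gen_mem hm) hmr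
    refine ⟨χ, c.gen_inv hm hmr fun x h => hχx x h, ?_⟩
    rintro ⟨y, hy⟩ hQ
    obtain ⟨x, rfl⟩ := hmr.ge hy
    rw [hχx x hy]
    refine Eq.trans ?_ (hψ ⟨th θ x, (mem_pre.mp x.2).2⟩ ((hi x (mem_pre.mp x.2).2).symm ▸ hQ))
    exact congrArg ψ (Subtype.ext (hi x (mem_pre.mp x.2).2).symm)
  · intro U hU hUc _ α hα
    have hUS := hU.1.trans c.tle
    haveI := finite_autGroup D hU.1
    obtain ⟨-, R, hR⟩ := (centralized_automized_of_fullyNormalized
      (isPGroup_of_le c.isP' c.tle) c.dsat hU).2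
    let H : Subgroup (D.autGroup U) :=
      { carrier := {a | ∃ β : MulAut (preimageAlong θ U),
          Gen0 F θ Z D p _ ((preimageAlong θ U).subtype.comp β.toMonoidHom) ∧
          Ind θ ((preimageAlong θ U).subtype.comp β.toMonoidHom)
            (U.subtype.comp (a : MulAut U).toMonoidHom)}
        one_mem' := ⟨1, (Gen0.incl (pre_mono hU.1)).congr fun _ => rfl, fun _ _ => rfl⟩
        mul_mem' := by
          rintro a b ⟨β, hβ, hi⟩ ⟨γ, hγ, hj⟩
          refine ⟨β * γ, Gen0.comp_apply hγ hβ (fun x => (γ x).2) fun x => rfl, fun x hx => ?_⟩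
          show (((a : MulAut U) ((b : MulAut U) ⟨th θ x, hx⟩) : U) : Γ) = th θ ((β (γ x) : _) : Ω)
          have e : th θ ((γ x : preimageAlong θ U) : Ω) =
              (((b : MulAut U) ⟨th θ x, hx⟩ : U) : Γ) := (hj x hx).symm
          refine Eq.trans ?_ (hi (γ x) (e ▸ Subtype.mem _))
          exact congrArg (fun v => (((a : MulAut U) v : U) : Γ)) (Subtype.ext e.symm)
        inv_mem' := by
          rintro a ⟨β, hβ, hi⟩
          refine ⟨β⁻¹, c.gen_inv hβ (range_subtype_comp_aut β) fun x h => ?_, fun x hx => ?_⟩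
          · show (((β⁻¹ : MulAut _) (β x) : preimageAlong θ U) : Ω) = x
            rw [MulAut.inv_apply_self]
          · show ((((a : MulAut U)⁻¹) ⟨th θ x, hx⟩ : U) : Γ) = th θ ((β⁻¹ x : _) : Ω)
            have h1 := hi (β⁻¹ x) (mem_pre.mp (β⁻¹ x).2).2
            change (((a : MulAut U) _ : U) : Γ) = th θ ((β (β⁻¹ x) : _) : Ω) at h1
            rw [MulAut.apply_inv_self] at h1
            rw [← show (a : MulAut U) ⟨_, (mem_pre.mp (β⁻¹ x).2).2⟩ = ⟨th θ x, hx⟩ from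
              Subtype.ext h1, MulAut.inv_apply_self] }
    suffices h : (⟨α, hα⟩ : D.autGroup U) ∈ H by
      obtain ⟨β, hβ, hi⟩ := h
      exact ⟨_, hβ, hi⟩
    have htop : (R : Subgroup (D.autGroup U)) ⊔ pResidual p (D.autGroup U) ≤ H := by
      refine sup_le ?_ ((Subgroup.closure_le _).mpr ?_)
      · intro a ha
        rw [hR] at ha
        obtain ⟨y, hy, hyx⟩ := mem_autInducedBy_iff.mp (Subgroup.mem_subgroupOf.mp ha)
        obtain ⟨t, htS, rfl⟩ := c.exists_th (c.tle hy)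
        have hn : t ∈ Subgroup.normalizer (preimageAlong θ U : Set Ω) := by
          have h := (CfsgLib.FusionModels.mem_normalizerIn_preimage c.fac.2.2.1 hUS
            ⟨t, htS⟩).mpr (by
              rw [← th_eq θ htS]
              exact ⟨c.th_mem htS, normalizer_of_induced hyx⟩)
          exact h.2
        refine ⟨conjAut _ t hn, (Gen0.conj (pre_mono hU.1) t (mem_pre.mpr ⟨htS, hy⟩)).congr
          fun _ => rfl, fun x hx => ?_⟩
        refine (hyx ⟨th θ x, hx⟩).trans ?_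
        exact (th_conj θ htS (preimageAlong_le θ U x.2)).symm
      · intro a ha
        have ha' : (orderOf (a : MulAut U)).Coprime p := by rwa [Subgroup.orderOf_coe]
        obtain ⟨β, hβ, hi⟩ := c.exists_pLift' (pre_mono hU.1) (c.z_le_pre U) (c.img_pre hUS)
          a.2 ha'
        exact ⟨β, (Gen0.base (c.ok_pre hUc) le_rfl β hβ).congr fun _ => rfl, hi⟩
    rw [CfsgLib.FusionSub.sylow_sup_pResidual] at htop
    exact htop (Subgroup.mem_top _)

end LCtx

end CfsgLib.FusionLifting
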