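import Cfsg.Agent.Lib.Alperin.Induced
import Cfsg.Agent.Lib.Alperin.FactorHyperfocal
import Cfsg.Agent.Lib.Alperin.Invariant
import Cfsg.Agent.Lib.FusionSub.Solvable
import Cfsg.Agent.Lib.FusionExamples.Basic
import Cfsg.Agent.S5134

/-!
A saturated system with a central subgroup `Z`, its factor system `E`, and a normal subsystem `D`
of `E`: the maps of the system inducing maps of `D`.
-/

set_option autoImplicit false
set_option linter.style.haveILetI false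
set_option linter.unusedSectionVars false

namespace CfsgLib.FusionLifting

open Cfsg Cfsg.FusionSystem CfsgLib.Alperin CfsgLib.FusionSub

universe u v

variable {Ω : Type u} [Group Ω] {Γ : Type v} [Group Γ] {S Z : Subgroup Ω} {S' T' : Subgroup Γ}

open Classical in
/-- A homomorphism on `S`, as a function on the ambient group. -/
noncomputable def th (θ : S →* Γ) (x : Ω) : Γ :=
  if h : x ∈ S then θ ⟨x, h⟩ else 1

theorem th_eq (θ : S →* Γ) {x : Ω} (h : x ∈ S) : th θ x = θ ⟨x, h⟩ := dif_pos h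

theorem th_mul (θ : S →* Γ) {x y : Ω} (hx : x ∈ S) (hy : y ∈ S) :
    th θ (x * y) = th θ x * th θ y := by
  rw [th_eq θ (S.mul_mem hx hy), th_eq θ hx, th_eq θ hy, ← map_mul]
  rfl

theorem th_inv (θ : S →* Γ) {x : Ω} (hx : x ∈ S) : th θ x⁻¹ = (th θ x)⁻¹ := by
  rw [th_eq θ (S.inv_mem hx), th_eq θ hx, ← map_inv]
  rfl

theorem th_conj (θ : S →* Γ) {x y : Ω} (hx : x ∈ S) (hy : y ∈ S) :
    th θ (x * y * x⁻¹) = th θ x * th θ y * (th θ x)⁻¹ := by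
  rw [th_mul θ (S.mul_mem hx hy) (S.inv_mem hx), th_mul θ hx hy, th_inv θ hx]

theorem mem_img {θ : S →* Γ} {P : Subgroup Ω} (hP : P ≤ S) {y : Γ} :
    y ∈ imageAlong θ P ↔ ∃ x : P, th θ x = y := by
  rw [mem_imageAlong]
  constructor
  · rintro ⟨x, hx, rfl⟩
    exact ⟨⟨x, hx⟩, th_eq θ x.2⟩
  · rintro ⟨x, rfl⟩
    exact ⟨⟨x, hP x.2⟩, x.2, (th_eq θ (hP x.2)).symm⟩

theorem th_mem_img {θ : S →* Γ} {P : Subgroup Ω} (hP : P ≤ S) {x : Ω} (hx : x ∈ P) :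
    th θ x ∈ imageAlong θ P := (mem_img hP).mpr ⟨⟨x, hx⟩, rfl⟩

theorem mem_pre {θ : S →* Γ} {P' : Subgroup Γ} {x : Ω} :
    x ∈ preimageAlong θ P' ↔ x ∈ S ∧ th θ x ∈ P' := by
  rw [mem_preimageAlong]
  exact ⟨fun ⟨h, h'⟩ => ⟨h, (th_eq θ h).symm ▸ h'⟩, fun ⟨h, h'⟩ => ⟨h, th_eq θ h ▸ h'⟩⟩

/-- A saturated system `F`, a central subgroup `Z`, the factor system `E` of `F` modulo `Z`, and a
normal subsystem `D` of `E`. -/
structure LCtx (F : FusionSystem S) (Z : Subgroup Ω) (θ : S →* Γ) (E : FusionSystem S')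
    (D : FusionSystem T') (p : ℕ) : Prop where
  isP : IsPGroup p S
  sat : F.IsSaturated p
  central : F.IsCentral Z
  fac : F.IsFactorSystem Z θ E
  nrm : D.IsNormalIn E p

/-- `φ'` is induced by `φ`. -/
def Ind (θ : S →* Γ) {P : Subgroup Ω} (φ : P →* Ω) {P' : Subgroup Γ} (φ' : P' →* Γ) : Prop :=
  ∀ (x : P) (h : th θ x ∈ P'), φ' ⟨th θ x, h⟩ = th θ (φ x)

/-- `φ` is a map of `F` inducing a map of `D`. -/
def IndD (F : FusionSystem S) (θ : S →* Γ) (D : FusionSystem T') (P : Subgroup Ω) (φ : P →* Ω) :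
    Prop :=
  φ ∈ F.Hom P ∧ ∃ φ' ∈ D.Hom (imageAlong θ P), Ind θ φ φ'

variable {F : FusionSystem S} {θ : S →* Γ} {E : FusionSystem S'} {D : FusionSystem T'} {p : ℕ}
  [Fact p.Prime] [Finite S]

namespace LCtx

variable (c : LCtx F Z θ E D p)
include c

theorem zle : Z ≤ S := c.central.1

theorem fix {P : Subgroup Ω} {φ : P →* Ω} (hφ : φ ∈ F.Hom P) (x : P) (hx : (x : Ω) ∈ Z) :
    φ x = x := by
  obtain ⟨ψ, -, hψx, hψZ⟩ := c.central.2 P φ hφ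
  rw [← hψx x]
  exact (congrArg ψ (Subtype.ext rfl)).trans (hψZ ⟨x, hx⟩)

theorem zclosed : F.StronglyClosed Z :=
  ⟨c.zle, fun R hR φ hφ x => by rw [c.fix hφ x (hR x.2)]; exact hR x.2⟩

theorem zcomm {z s : Ω} (hz : z ∈ Z) (hs : s ∈ S) : s * z = z * s :=
  F.center_le_centralizer (CfsgLib.FusionExamples.isCentral_le_center c.central hz) s hs

theorem th_eq_one {x : Ω} (hx : x ∈ S) : th θ x = 1 ↔ x ∈ Z := by
  rw [th_eq θ hx]
  exact c.fac.2.1 ⟨x, hx⟩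

theorem th_eq_th {x y : Ω} (hx : x ∈ S) (hy : y ∈ S) : th θ x = th θ y ↔ x⁻¹ * y ∈ Z := by
  rw [← c.th_eq_one (S.mul_mem (S.inv_mem hx) hy), th_mul θ (S.inv_mem hx) hy, th_inv θ hx,
    inv_mul_eq_one]

theorem th_mem {x : Ω} (hx : x ∈ S) : th θ x ∈ S' := by
  rw [th_eq θ hx]
  exact c.fac.2.2.1.le ⟨_, rfl⟩

theorem exists_th {y : Γ} (hy : y ∈ S') : ∃ x ∈ S, th θ x = y := by
  obtain ⟨x, rfl⟩ := c.fac.2.2.1.ge hy
  exact ⟨x, x.2, th_eq θ x.2⟩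

theorem isP' : IsPGroup p S' := isPGroup_of_range c.isP c.fac.2.2.1

theorem finS : Finite S' := finite_of_range c.fac.2.2.1

theorem esat : E.IsSaturated p := c.nrm.1.2.1

theorem dsat : D.IsSaturated p := c.nrm.1.1

theorem dsub : D.IsSubsystemOf E := c.nrm.1.2.2.1

theorem dclosed : E.StronglyClosed T' := c.nrm.1.2.2.2.1

theorem tle : T' ≤ S' := c.dclosed.1

theorem tclosed : F.StronglyClosed (preimageAlong θ T') :=
  factor_stronglyClosed_preimage c.isP c.sat c.zclosed c.fac c.dclosed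

theorem z_le_pre (P' : Subgroup Γ) : Z ≤ preimageAlong θ P' :=
  ker_le_preimageAlong c.zle c.fac.2.1 P'

theorem img_le (P : Subgroup Ω) : imageAlong θ P ≤ S' :=
  (imageAlong_le_range θ P).trans c.fac.2.2.1.le

theorem img_le_T {P : Subgroup Ω} (hP : P ≤ preimageAlong θ T') : imageAlong θ P ≤ T' := by
  intro y hy
  obtain ⟨x, rfl⟩ := (mem_img (hP.trans (preimageAlong_le θ T'))).mp hy
  exact (mem_pre.mp (hP x.2)).2

theorem img_pre {P' : Subgroup Γ} (hP' : P' ≤ S') : imageAlong θ (preimageAlong θ P') = P' := by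
  ext y
  rw [mem_img (preimageAlong_le θ P')]
  refine ⟨fun ⟨x, hx⟩ => hx ▸ (mem_pre.mp x.2).2, fun hy => ?_⟩
  obtain ⟨x, hx, rfl⟩ := c.exists_th (hP' hy)
  exact ⟨⟨x, mem_pre.mpr ⟨hx, hy⟩⟩, rfl⟩

theorem pre_img {P : Subgroup Ω} (hP : P ≤ S) (hZP : Z ≤ P) :
    preimageAlong θ (imageAlong θ P) = P := by
  ext x
  rw [mem_pre, mem_img hP]
  refine ⟨?_, fun hx => ⟨hP hx, ⟨x, hx⟩, rfl⟩⟩
  rintro ⟨hxS, ⟨y, hy⟩, he⟩
  have h := hZP ((c.th_eq_th (hP hy) hxS).mp he)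
  have := P.mul_mem hy h
  rwa [mul_inv_cancel_left] at this

omit [Fact p.Prime] [Finite S] c in
theorem pre_mono {P' Q' : Subgroup Γ} (h : P' ≤ Q') :
    preimageAlong θ P' ≤ preimageAlong θ Q' := fun x hx =>
  mem_pre.mpr ⟨(mem_pre.mp hx).1, h (mem_pre.mp hx).2⟩

/-- Every map induces a map of the factor system. -/
theorem exists_ind {P : Subgroup Ω} {φ : P →* Ω} (hφ : φ ∈ F.Hom P) :
    ∃ φ' ∈ E.Hom (imageAlong θ P), Ind θ φ φ' := by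
  obtain ⟨φ', hφ', hP, hφS, hPP, hx⟩ :=
    (Cfsg.Agent.S5134.result p c.isP F c.sat Z c.zclosed θ E c.fac).1.2 P φ hφ
  refine ⟨φ', hφ', fun x h => ?_⟩
  rw [th_eq θ (hφS x)]
  exact (congrArg φ' (Subtype.ext (th_eq θ (hP x.2)))).trans (hx x)

/-- Every map of the factor system is induced by a map on the preimage. -/
theorem exists_lift {P' : Subgroup Γ} {φ' : P' →* Γ} (hφ' : φ' ∈ E.Hom P') :
    ∃ φ ∈ F.Hom (preimageAlong θ P'), Ind θ φ φ' := by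
  obtain ⟨-, φ, hφ, hP, hφS, hPP, hx⟩ := (c.fac.2.2.2 P' φ').mp hφ'
  refine ⟨φ, hφ, fun x h => ?_⟩
  rw [th_eq θ (hφS x)]
  exact (congrArg φ' (Subtype.ext (th_eq θ (hP x.2)))).trans (hx x)

theorem ind_congr {P : Subgroup Ω} (hP : P ≤ S) {φ χ : P →* Ω}
    {φ' χ' : imageAlong θ P →* Γ} (h : Ind θ φ φ') (h' : Ind θ χ χ')
    (he : ∀ x : P, th θ (φ x) = th θ (χ x)) : φ' = χ' := by
  refine MonoidHom.ext fun y => ?_
  obtain ⟨y, hy⟩ := y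
  obtain ⟨x, rfl⟩ := (mem_img hP).mp hy
  rw [h x hy, h' x hy, he]

theorem ind_range {P : Subgroup Ω} {φ : P →* Ω} (hφ : φ ∈ F.Hom P)
    {φ' : imageAlong θ P →* Γ} (h : Ind θ φ φ') : imageAlong θ φ.range = φ'.range := by
  have hP := dom_le hφ
  ext y
  rw [mem_img (range_le hφ)]
  constructor
  · rintro ⟨⟨_, x, rfl⟩, rfl⟩
    exact ⟨⟨th θ x, th_mem_img hP x.2⟩, h x _⟩
  · rintro ⟨⟨z, hz⟩, rfl⟩
    obtain ⟨x, rfl⟩ := (mem_img hP).mp hz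
    exact ⟨⟨φ x, x, rfl⟩, (h x hz).symm⟩

theorem z_le_range {P : Subgroup Ω} (hZP : Z ≤ P) {φ : P →* Ω} (hφ : φ ∈ F.Hom P) :
    Z ≤ φ.range := fun z hz => ⟨⟨z, hZP hz⟩, c.fix hφ ⟨z, hZP hz⟩ hz⟩

theorem range_eq_pre {P : Subgroup Ω} (hZP : Z ≤ P) {φ : P →* Ω} (hφ : φ ∈ F.Hom P)
    {φ' : imageAlong θ P →* Γ} (h : Ind θ φ φ') : φ.range = preimageAlong θ φ'.range := by
  rw [← c.ind_range hφ h, c.pre_img (range_le hφ) (c.z_le_range hZP hφ)]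

omit c in
theorem _root_.CfsgLib.FusionLifting.IndD.mem {P : Subgroup Ω} {φ : P →* Ω}
    (h : IndD F θ D P φ) : φ ∈ F.Hom P := h.1

theorem IndD_le {P : Subgroup Ω} {φ : P →* Ω} (h : IndD F θ D P φ) :
    P ≤ preimageAlong θ T' := by
  obtain ⟨hφ, φ', hφ', -⟩ := h
  exact fun x hx => mem_pre.mpr ⟨dom_le hφ hx, dom_le hφ' (th_mem_img (dom_le hφ) hx)⟩

theorem indD_apply_mem {P : Subgroup Ω} {φ : P →* Ω} (h : IndD F θ D P φ) (x : P) :
    φ x ∈ preimageAlong θ T' :=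
  stronglyClosed_apply c.tclosed h.mem x (c.IndD_le h x.2)

theorem indD_of_th_eq {P : Subgroup Ω} {φ χ : P →* Ω} (h : IndD F θ D P φ) (hχ : χ ∈ F.Hom P)
    (he : ∀ x : P, th θ (χ x) = th θ (φ x)) : IndD F θ D P χ := by
  obtain ⟨-, φ', hφ', hind⟩ := h
  exact ⟨hχ, φ', hφ', fun x hx => (hind x hx).trans (he x).symm⟩

theorem indD_conj {P : Subgroup Ω} (hP : P ≤ preimageAlong θ T') {t : Ω}
    (ht : t ∈ preimageAlong θ T') : IndD F θ D P (conjHom P t) := by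
  have hPS := hP.trans (preimageAlong_le θ T')
  obtain ⟨htS, htT⟩ := mem_pre.mp ht
  refine ⟨F.conj_mem hPS htS, _, D.conj_mem (c.img_le_T hP) htT, fun x h => ?_⟩
  rw [conjHom_apply, conjHom_apply, th_conj θ htS (hPS x.2)]

theorem indD_incl {P : Subgroup Ω} (hP : P ≤ preimageAlong θ T') : IndD F θ D P P.subtype :=
  ⟨incl_mem F (hP.trans (preimageAlong_le θ T')), _, incl_mem D (c.img_le_T hP), fun _ _ => rfl⟩

theorem indD_comp {P R : Subgroup Ω} {φ : P →* Ω} {ψ : R →* Ω} {χ : P →* Ω}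
    (h₁ : IndD F θ D P φ) (h₂ : IndD F θ D R ψ) (h : ∀ x : P, φ x ∈ R)
    (hχ : ∀ x, χ x = ψ ⟨φ x, h x⟩) : IndD F θ D P χ := by
  obtain ⟨hφ, φ', hφ', hi⟩ := h₁
  obtain ⟨hψ, ψ', hψ', hj⟩ := h₂
  have hm : ∀ y, φ' y ∈ imageAlong θ R := by
    rintro ⟨y, hy⟩
    obtain ⟨x, rfl⟩ := (mem_img (dom_le hφ)).mp hy
    rw [hi x hy]
    exact th_mem_img (dom_le hψ) (h x)
  refine ⟨comp_mem_apply hφ hψ h hχ, _, D.comp_mem hφ' hψ' hm, fun x hx => ?_⟩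
  rw [hχ, MonoidHom.comp_apply]
  refine (congrArg ψ' (Subtype.ext (hi x hx))).trans (hj ⟨φ x, h x⟩ ?_)
  exact th_mem_img (dom_le hψ) (h x)

theorem indD_restrict {P R : Subgroup Ω} {φ : P →* Ω} {χ : R →* Ω} (h₁ : IndD F θ D P φ)
    (h : R ≤ P) (hχ : ∀ x : R, χ x = φ ⟨x, h x.2⟩) : IndD F θ D R χ :=
  c.indD_comp (c.indD_incl (h.trans (c.IndD_le h₁))) h₁ (fun x => h x.2) hχ

theorem indD_inv {P : Subgroup Ω} {φ : P →* Ω} (h₁ : IndD F θ D P φ) {R : Subgroup Ω}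
    (hr : φ.range = R) {χ : R →* Ω} (hχ : χ ∈ F.Hom R)
    (hx : ∀ (x : P) (h : φ x ∈ R), χ ⟨φ x, h⟩ = x) : IndD F θ D R χ := by
  subst hr
  obtain ⟨hφ, φ', hφ', hi⟩ := h₁
  obtain ⟨ψ', hψ', -, hψx, -⟩ := exists_inverse hφ' rfl
  have hle : imageAlong θ φ.range ≤ φ'.range := (c.ind_range hφ hi).le
  refine ⟨hχ, _, restrict_mem hψ' hle, ?_⟩
  rintro ⟨_, x, rfl⟩ hy
  rw [hx x ⟨x, rfl⟩]
  refine Eq.trans ?_ (hψx ⟨th θ x, th_mem_img (dom_le hφ) x.2⟩ ⟨_, rfl⟩)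
  exact congrArg ψ' (Subtype.ext (hi x _).symm)

/-- The automorphism induced on the image by an automorphism. -/
theorem exists_autInd {P : Subgroup Ω} (hP : P ≤ S) {β : MulAut P} (hβ : β ∈ F.autGroup P) :
    ∃ β' ∈ E.autGroup (imageAlong θ P), Ind θ (P.subtype.comp β.toMonoidHom)
      ((imageAlong θ P).subtype.comp β'.toMonoidHom) := by
  obtain ⟨β', hβ', hx⟩ := exists_autInduced c.isP c.sat c.zclosed c.fac hP hβ
  refine ⟨β', hβ', fun x h => ?_⟩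
  show ((β' ⟨th θ x, h⟩ : imageAlong θ P) : Γ) = th θ ((β x : P) : Ω)
  have e : th θ (x : Ω) = θ ⟨x, hP x.2⟩ := th_eq θ (hP x.2)
  refine Eq.trans ?_ ((hx x (e ▸ h)).trans (th_eq θ (hP (β x).2)).symm)
  exact congrArg (fun v => ((β' v : imageAlong θ P) : Γ)) (Subtype.ext e)

theorem indD_aut_iff {P : Subgroup Ω} (hP : P ≤ preimageAlong θ T') {β : MulAut P}
    (hβ : β ∈ F.autGroup P) {β' : MulAut (imageAlong θ P)}
    (h : Ind θ (P.subtype.comp β.toMonoidHom) ((imageAlong θ P).subtype.comp β'.toMonoidHom)) :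
    IndD F θ D P (P.subtype.comp β.toMonoidHom) ↔ β' ∈ D.autGroup (imageAlong θ P) := by
  have hPS := hP.trans (preimageAlong_le θ T')
  rw [mem_autGroup_iff D (c.img_le_T hP)]
  refine ⟨fun ⟨_, φ', hφ', hi⟩ => ?_, fun h' => ⟨(mem_autGroup_iff F hPS).mp hβ, _, h', h⟩⟩
  rw [← c.ind_congr hPS hi h fun _ => rfl]
  exact hφ'

end LCtx

end CfsgLib.FusionLifting
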