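import Cfsg.Agent.Lib.FusionLifting.Kernel

/-!
The generated automorphisms trivial on the image are inner.
-/

set_option autoImplicit false
set_option linter.style.haveILetI false
set_option linter.unusedSectionVars false

namespace CfsgLib.FusionLifting

open Cfsg Cfsg.FusionSystem CfsgLib.Alperin CfsgLib.FusionSub CfsgLib.FusionBasics

universe u v

variable {Ω : Type u} [Group Ω] {Γ : Type v} [Group Γ] {S Z : Subgroup Ω} {S' T' : Subgroup Γ}
  {F : FusionSystem S} {θ : S →* Γ} {E : FusionSystem S'} {D : FusionSystem T'} {p : ℕ}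
  [Fact p.Prime] [Finite S]

theorem congr_aut_eq {P : Subgroup Ω} (a κ : MulAut P)
    (hinj : Function.Injective (P.subtype.comp a.toMonoidHom))
    (hr : (P.subtype.comp a.toMonoidHom).range = P) :
    MulAut.congr (isoOfHom (P.subtype.comp a.toMonoidHom) hinj hr) κ = a * κ * a⁻¹ := by
  refine MulEquiv.ext fun y => Subtype.ext ?_
  obtain ⟨x, rfl⟩ := a.surjective y
  refine (congr_isoOfHom_apply (P.subtype.comp a.toMonoidHom) hinj hr κ x (a x).2).trans ?_
  rw [MulAut.mul_apply, MulAut.mul_apply, MulAut.inv_apply_self]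
  rfl

namespace LCtx

variable (c : LCtx F Z θ E D p)
include c

theorem inv_mul_mem_Z {P : Subgroup Ω} (hPS : P ≤ S) {κ : MulAut P} (hκ : κ ∈ kerA F θ P) (x : P) :
    (x : Ω)⁻¹ * ((κ x : P) : Ω) ∈ Z :=
  (c.th_eq_th (hPS x.2) (hPS (κ x).2)).mp (hκ.2 x).symm

theorem kerA_fix {P : Subgroup Ω} (hPS : P ≤ S) {κ : MulAut P} (hκ : κ ∈ kerA F θ P) (x : P)
    (hx : (x : Ω) ∈ Z) : κ x = x :=
  Subtype.ext (c.fix ((mem_autGroup_iff F hPS).mp hκ.1) x hx)

theorem kerA_comm {P : Subgroup Ω} (hPS : P ≤ S) {κ μ : MulAut P}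
    (hκ : κ ∈ kerA F θ P) (hμ : μ ∈ kerA F θ P) : κ * μ = μ * κ := by
  refine MulEquiv.ext fun x => ?_
  have key : ∀ {a b : MulAut P}, a ∈ kerA F θ P → b ∈ kerA F θ P →
      a (b x) = a x * (x⁻¹ * b x) := fun {a b} ha hb => by
    have h := c.kerA_fix hPS ha (x⁻¹ * b x) (c.inv_mul_mem_Z hPS hb x)
    rw [← h, ← map_mul, mul_inv_cancel_left]
  rw [MulAut.mul_apply, MulAut.mul_apply, key hκ hμ, key hμ hκ]
  refine Subtype.ext ?_
  simp only [Subgroup.coe_mul, Subgroup.coe_inv]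
  have h1 : ((κ x : P) : Ω) = (x : Ω) * ((x : Ω)⁻¹ * (κ x : P)) := by group
  have h2 : ((μ x : P) : Ω) = (x : Ω) * ((x : Ω)⁻¹ * (μ x : P)) := by group
  conv_lhs => rw [h1]
  conv_rhs => rw [h2]
  rw [mul_assoc (x : Ω), mul_assoc (x : Ω)]
  congr 1
  exact (c.zcomm (c.inv_mul_mem_Z hPS hμ x) (c.zle (c.inv_mul_mem_Z hPS hκ x)))

theorem isPGroup_kerA {P : Subgroup Ω} (hPS : P ≤ S) : IsPGroup p (kerA F θ P) := by
  obtain ⟨e, he⟩ := IsPGroup.iff_card.mp c.isP
  rintro ⟨κ, hκ⟩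
  refine ⟨e, Subtype.ext (MulEquiv.ext fun x => Subtype.ext ?_)⟩
  have hpow : ∀ n : ℕ, (κ ^ n) x = x * (x⁻¹ * κ x) ^ n := by
    intro n
    induction n with
    | zero => simp
    | succ n ih =>
      rw [pow_succ', MulAut.mul_apply, ih, map_mul, map_pow,
        c.kerA_fix hPS hκ (x⁻¹ * κ x) (c.inv_mul_mem_Z hPS hκ x), pow_succ', ← mul_assoc,
        mul_inv_cancel_left]
  show (((κ ^ p ^ e) x : P) : Ω) = x
  rw [hpow, Subgroup.coe_mul, Subgroup.coe_pow]
  have h5 : (⟨((x⁻¹ * κ x : P) : Ω), hPS (x⁻¹ * κ x).2⟩ : S) ^ p ^ e = 1 := he ▸ pow_card_eq_one'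
  rw [show ((x⁻¹ * κ x : P) : Ω) ^ p ^ e = 1 from congrArg Subtype.val h5, mul_one]

theorem kerA_conj {P : Subgroup Ω} (hPS : P ≤ S) {a κ : MulAut P}
    (ha : a ∈ F.autGroup P) (hκ : κ ∈ kerA F θ P) : a * κ * a⁻¹ ∈ kerA F θ P := by
  have h := c.kerA_congr ((mem_autGroup_iff F hPS).mp ha) (range_subtype_comp_aut a) hκ
  rwa [congr_aut_eq] at h

/-- The kernel is induced by `S` at a fully normalized subgroup. -/
theorem kerA_le_autInducedBy {P : Subgroup Ω} (hP : F.IsFullyNormalized P) :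
    kerA F θ P ≤ autInducedBy S P := by
  haveI := finite_autGroup F hP.1
  obtain ⟨-, R, hR⟩ := (centralized_automized_of_fullyNormalized c.isP c.sat hP).2
  set K : Subgroup (F.autGroup P) := (kerA F θ P).subgroupOf (F.autGroup P)
  haveI : K.Normal := ⟨fun n hn a => Subgroup.mem_subgroupOf.mpr (by
    simpa using c.kerA_conj hP.1 a.2 (Subgroup.mem_subgroupOf.mp hn))⟩
  have hK : IsPGroup p K := (c.isPGroup_kerA hP.1).comap_of_injective _ Subtype.val_injective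
  have h := R.3 (IsPGroup.to_sup_of_normal_right R.2 hK) le_sup_left
  intro κ hκ
  have : (⟨κ, hκ.1⟩ : F.autGroup P) ∈ (R : Subgroup (F.autGroup P)) :=
    h ▸ Subgroup.mem_sup_right (T := K) (Subgroup.mem_subgroupOf.mpr hκ)
  rw [hR] at this
  exact this

/-- A transported conjugation induced by `S` at a receptive subgroup is induced by the preimage of
`T'`. -/
theorem tConj_mem {P : Subgroup Ω} (hP : F.IsReceptive P) {β : MulAut P}
    (hβ : TConj F (preimageAlong θ T') P β) (hs : β ∈ autInducedBy S P) :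
    β ∈ autInducedBy (preimageAlong θ T') P := by
  obtain ⟨R, χ, hχ, hr, t, ht, hRT, htT, rfl⟩ := hβ
  obtain ⟨s, hsS, hsx⟩ := mem_autInducedBy_iff.mp hs
  have hext : t ∈ extender S R χ := by
    refine mem_extender_iff.mpr ⟨preimageAlong_le θ T' htT, ht, s, hsS, fun x hx => ?_⟩
    have h := hsx ⟨χ x, hr.le ⟨x, rfl⟩⟩
    rw [congr_isoOfHom_apply] at h
    refine Eq.trans ?_ h
    rfl
  obtain ⟨ψ, hψ, hψx⟩ := hP.2 R χ hχ hr
  refine mem_autInducedBy_iff.mpr ⟨ψ ⟨t, hext⟩, stronglyClosed_apply c.tclosed hψ _ htT, fun y => ?_⟩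
  obtain ⟨x, hx⟩ := hr.ge y.2
  rw [show y = ⟨χ x, hx ▸ y.2⟩ from Subtype.ext hx.symm, congr_isoOfHom_apply]
  have hle := le_extender hχ
  have h1 : ∀ w : R, χ w = ψ ⟨w, hle w.2⟩ := fun w => (hψx w w.2 (hle w.2)).symm
  show χ (conjAut R t ht x) = ψ ⟨t, hext⟩ * χ x * (ψ ⟨t, hext⟩)⁻¹
  rw [h1, h1, ← map_inv, ← map_mul, ← map_mul]
  exact congrArg ψ (Subtype.ext rfl)

theorem exists_pow_of_tConj {P : Subgroup Ω} {β : MulAut P}
    (hβ : TConj F (preimageAlong θ T') P β) : ∃ k : ℕ, β ^ p ^ k = 1 := by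
  obtain ⟨R, χ, hχ, hr, t, ht, hRT, htT, rfl⟩ := hβ
  obtain ⟨k, hk⟩ := exists_pow_eq_one_of_mem_autInducedBy c.isP
    (conjAut_mem (preimageAlong_le θ T' htT) ht)
  exact ⟨k, by rw [← map_pow, hk, map_one]⟩

/-- The centrality modulo the preimage of `T'` of the kernel, for elements of order prime
to `p`. -/
theorem exists_coprime_extension {P : Subgroup Ω} (hP : Ok θ Z D P)
    (hU : E.IsFullyNormalized (imageAlong θ P)) {g : MulAut P} (hg : g ∈ hatA F θ D P)
    (hco : (orderOf g).Coprime p) {y : Γ} (hy : y ∈ centralizerIn S' (imageAlong θ P)) :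
    ∃ (V : Subgroup Γ) (hUV : imageAlong θ P ≤ V) (hyV : y ∈ V) (γ : MulAut V),
      V ≤ S' ∧ γ ∈ E.autGroup V ∧ y⁻¹ * ((γ ⟨y, hyV⟩ : V) : Γ) ∈ T' ∧
      ∀ (x : P) (h : th θ (x : Ω) ∈ V), ((γ ⟨th θ x, h⟩ : V) : Γ) = th θ ((g x : P) : Ω) := by
  haveI := c.finS
  haveI := finite_of_le (c.img_le (θ := θ) P)
  haveI := finite_mulAut (P := imageAlong θ P)
  haveI := finite_of_le hP.leS
  haveI := finite_mulAut (P := P)
  set U := imageAlong θ P with hUdef
  obtain ⟨res, hresD, hres⟩ : ∃ res : hatA F θ D P →* MulAut U, (∀ β, res β ∈ D.autGroup U) ∧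
      ∀ β : hatA F θ D P, Ind θ (P.subtype.comp (β : MulAut P).toMonoidHom)
        (U.subtype.comp (res β).toMonoidHom) := c.exists_res hP.leT
  set e := res ⟨g, hg⟩ with hedef
  have hecop : (orderOf e).Coprime p := by
    refine hco.coprime_dvd_left ?_
    have h := orderOf_map_dvd res (⟨g, hg⟩ : hatA F θ D P)
    rwa [Subgroup.orderOf_mk] at h
  let cc : CfsgLib.FusionProduct.Ctx E D p S' :=
    { isP := c.isP', sat := c.esat, nrm := c.nrm, tr := c.tle, rs := le_rfl }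
  have hPs := CfsgLib.FusionProduct.dSys_isSaturated cc
  obtain ⟨hDsub, hhyp, -⟩ := CfsgLib.FusionProduct.dSys_pPowerIndex cc
  have hsubE := CfsgLib.FusionProduct.dSys_le_F cc
  have hUc : (CfsgLib.FusionProduct.dSys cc).IsFullyCentralized U := by
    refine ⟨hU.1, fun U₁ ⟨φ, hφ, hr⟩ => ?_⟩
    exact (centralized_automized_of_fullyNormalized c.isP' c.esat hU).1.2 U₁ ⟨φ, hsubE _ hφ, hr⟩
  have he' := hDsub _ ((mem_autGroup_iff D (c.img_le_T hP.leT)).mp (hresD ⟨g, hg⟩))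
  obtain ⟨ψ, hψ, hψx⟩ := (receptive_of_fullyCentralized c.isP' hPs hUc).2 U _ he'
    (range_subtype_comp_aut e)
  set V := U ⊔ centralizerIn S' U with hVdef
  have hVN : V ≤ extender S' U (U.subtype.comp e.toMonoidHom) :=
    sup_centralizerIn_le_extender he'
  have hVS : V ≤ S' := sup_le hU.1 (centralizerIn_le S' U)
  haveI := finite_of_le hVS
  haveI := finite_mulAut (P := V)
  set ψV := ψ.comp (Subgroup.inclusion hVN) with hψVdef
  have hψV : ψV ∈ (CfsgLib.FusionProduct.dSys cc).Hom V := restrict_mem hψ hVN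
  have hval : ∀ x : U, ψV ⟨x, Subgroup.mem_sup_left x.2⟩ = ((e x : U) : Γ) := fun x =>
    hψx x x.2 _
  have hm : ∀ v : V, ψV v ∈ V := by
    have h : V ≤ (V.comap ψV).map V.subtype := sup_le
      (fun x hx => ⟨⟨x, Subgroup.mem_sup_left hx⟩,
        Subgroup.mem_sup_left ((hval ⟨x, hx⟩).symm ▸ (e _).2), rfl⟩)
      fun x hx => ⟨⟨x, Subgroup.mem_sup_right hx⟩, by
        refine Subgroup.mem_sup_right ⟨apply_mem hψV _, fun u hu => ?_⟩
        obtain ⟨w, hw⟩ := e.surjective ⟨u, hu⟩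
        have hw' : ψV ⟨w, Subgroup.mem_sup_left w.2⟩ = u := by rw [hval, hw]
        rw [← hw', ← map_mul, ← map_mul]
        exact congrArg ψV (Subtype.ext (hx.2 w w.2)), rfl⟩
    intro v
    obtain ⟨w, hw, e1⟩ := h v.2
    rw [← show w = v from Subtype.ext e1]
    exact hw
  obtain ⟨γ, hγ, hγx⟩ := exists_aut_of_hom' _ hψV hm
  have hγU : ∀ (n : ℕ) (x : U), (γ ^ n) ⟨x, Subgroup.mem_sup_left x.2⟩ =
      ⟨((e ^ n) x : U), Subgroup.mem_sup_left ((e ^ n) x).2⟩ := by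
    intro n
    induction n with
    | zero => intro x; simp
    | succ n ih =>
      intro x
      rw [pow_succ', MulAut.mul_apply, ih x]
      refine Subtype.ext ((hγx _).trans ?_)
      rw [hval ((e ^ n) x)]
      simp only [pow_succ', MulAut.mul_apply]
  obtain ⟨k, hk⟩ := exists_pow_coprime (p := p) γ
  obtain ⟨j, hj⟩ := exists_pow_eq_self_of_coprime (x := e) (n := p ^ k) (hecop.symm.pow_left k)
  have hgam : (γ ^ p ^ k) ^ j ∈ (CfsgLib.FusionProduct.dSys cc).autGroup V :=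
    pow_mem (pow_mem hγ _) _
  have hco' : (orderOf ((γ ^ p ^ k) ^ j)).Coprime p := hk.coprime_dvd_left (orderOf_pow_dvd j)
  have hyV : y ∈ V := Subgroup.mem_sup_right hy
  refine ⟨V, le_sup_left, hyV, (γ ^ p ^ k) ^ j,
    hVS, autGroup_mono hsubE V hgam, ?_, fun x h => ?_⟩
  · exact hhyp (mem_hyperfocal _ hVS (mem_map_pResidual_of_coprime _ hgam hco') ⟨y, hyV⟩)
  · rw [← pow_mul]
    refine (congrArg Subtype.val
      (hγU (p ^ k * j) ⟨th θ x, th_mem_img hP.leS x.2⟩)).trans ?_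
    show (((e ^ (p ^ k * j)) ⟨th θ x, _⟩ : U) : Γ) = _
    rw [pow_mul, hj]
    exact hres ⟨g, hg⟩ x _

set_option maxHeartbeats 1600000 in
/-- The generated automorphisms trivial on the image are inner, at a fully normalized subgroup. -/
theorem genA_inner_of_fullyNormalized {P : Subgroup Ω} (hP : Ok θ Z D P)
    (hU : E.IsFullyNormalized (imageAlong θ P)) (hPn : F.IsFullyNormalized P) {β : MulAut P}
    (hβG : β ∈ genA F θ D p P) (hβK : β ∈ kerA F θ P) :
    ∃ u ∈ P, ∀ x : P, ((β x : P) : Ω) = u * x * u⁻¹ := by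
  haveI := c.finS
  haveI := finite_of_le hP.leS
  haveI := finite_mulAut (P := P)
  haveI := finite_of_le c.tle
  set T := preimageAlong θ T' with hTdef
  have hTS : T ≤ S := preimageAlong_le θ T'
  have hPS := hP.leS
  have hrec := receptive_of_fullyNormalized c.isP c.sat hPn
  have hKS := c.kerA_le_autInducedBy hPn
  have hKA := c.kerA_le_hatA hP.leT
  have hconjA : ∀ {t : Ω} (_ : t ∈ T) (hn : t ∈ Subgroup.normalizer (P : Set Ω)),
      conjAut P t hn ∈ hatA F θ D P := fun ht hn =>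
    c.genA_le_hatA (Subgroup.subset_closure (Or.inr (tConj_conjAut hTS hP.leT ht hn)))
  have hTA : autInducedBy T P ≤ hatA F θ D P := fun α hα => by
    obtain ⟨t, ht, htx⟩ := mem_autInducedBy_iff.mp hα
    rw [conjAut_map_congr (normalizer_of_induced htx) htx]
    exact hconjA ht _
  set U := imageAlong θ P with hUdef
  set G := hatA F θ D P with hGdef
  obtain ⟨res, hresD, hres⟩ : ∃ res : G →* MulAut U, (∀ β, res β ∈ D.autGroup U) ∧
      ∀ β : G, Ind θ (P.subtype.comp (β : MulAut P).toMonoidHom)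
        (U.subtype.comp (res β).toMonoidHom) := c.exists_res hP.leT
  set A : Subgroup G := (autInducedBy T P).subgroupOf G with hAdef
  set K : Subgroup G := (kerA F θ P).subgroupOf G with hKdef
  set MS : Subgroup G := (autInducedBy S P).subgroupOf G with hMSdef
  have hMSp : IsPGroup p MS :=
    (isPGroup_autInducedBy c.isP P).comap_of_injective _ Subtype.val_injective
  obtain ⟨M, hM0⟩ := hMSp.exists_le_sylow
  have hAS : autInducedBy T P ≤ autInducedBy S P := fun α hα => by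
    obtain ⟨t, ht, htx⟩ := mem_autInducedBy_iff.mp hα
    exact mem_autInducedBy_iff.mpr ⟨t, hTS ht, htx⟩
  have hAM : A ≤ M := fun a ha => hM0 (hAS ha)
  have hKM : K ≤ M := fun a ha => hM0 (hKS ha)
  -- the image of `M`
  obtain ⟨-, RD, hRD⟩ := (centralized_automized_of_fullyNormalized
    (isPGroup_of_le c.isP' c.tle) c.dsat (c.dFullyNormalized (c.img_le_T hP.leT) hU)).2
  let resD : G →* D.autGroup U := res.codRestrict _ hresD
  have hRDle : (RD : Subgroup (D.autGroup U)) ≤ (M : Subgroup G).map resD := by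
    intro a ha
    rw [hRD] at ha
    obtain ⟨y, hy, hyx⟩ := mem_autInducedBy_iff.mp (Subgroup.mem_subgroupOf.mp ha)
    obtain ⟨t, htS, rfl⟩ := c.exists_th (c.tle hy)
    have htT : t ∈ T := mem_pre.mpr ⟨htS, hy⟩
    have hnU : th θ t ∈ normalizerIn S' U := ⟨c.th_mem htS, normalizer_of_induced hyx⟩
    have hn : t ∈ Subgroup.normalizer (P : Set Ω) := by
      have h := (CfsgLib.FusionModels.mem_normalizerIn_preimage c.fac.2.2.1 (c.img_le P)
        ⟨t, htS⟩).mpr (by rw [← th_eq θ htS]; exact hnU)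
      rw [c.pre_img hPS hP.zle] at h
      exact h.2
    refine ⟨⟨conjAut P t hn, hconjA htT hn⟩, hM0 (hAS (conjAut_mem htT hn)), Subtype.ext ?_⟩
    refine MulEquiv.ext fun z => Subtype.ext ?_
    obtain ⟨z, hz⟩ := z
    obtain ⟨x, rfl⟩ := (mem_img hPS).mp hz
    refine (hres ⟨conjAut P t hn, hconjA htT hn⟩ x hz).trans ?_
    show th θ (t * x * t⁻¹) = _
    rw [hyx, th_conj θ htS (hPS x.2)]
  have hMimg := RD.3 (M.2.map resD) hRDle
  have hMK : ∀ m ∈ (M : Subgroup G), ∃ k ∈ K, ∃ a ∈ A, m = k * a := by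
    intro m hm
    have h1 : resD m ∈ (RD : Subgroup (D.autGroup U)) := hMimg ▸ ⟨m, hm, rfl⟩
    rw [hRD] at h1
    obtain ⟨y, hy, hyx⟩ := mem_autInducedBy_iff.mp (Subgroup.mem_subgroupOf.mp h1)
    obtain ⟨t, htS, rfl⟩ := c.exists_th (c.tle hy)
    have htT : t ∈ T := mem_pre.mpr ⟨htS, hy⟩
    have hn : t ∈ Subgroup.normalizer (P : Set Ω) := by
      have h := (CfsgLib.FusionModels.mem_normalizerIn_preimage c.fac.2.2.1 (c.img_le P)
        ⟨t, htS⟩).mpr (by
          rw [← th_eq θ htS]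
          exact ⟨c.th_mem htS, normalizer_of_induced hyx⟩)
      rw [c.pre_img hPS hP.zle] at h
      exact h.2
    refine ⟨m * ⟨conjAut P t hn, hconjA htT hn⟩⁻¹, ?_, ⟨conjAut P t hn, hconjA htT hn⟩,
      conjAut_mem htT hn, (inv_mul_cancel_right _ _).symm⟩
    refine mem_kerA_of_res hPS
      ((c.mem_hatA hP.leT).mp (m * (⟨conjAut P t hn, hconjA htT hn⟩ : G)⁻¹).2).1
      (hres (m * (⟨conjAut P t hn, hconjA htT hn⟩ : G)⁻¹)) ?_
    rw [map_mul, map_inv, mul_inv_eq_one]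
    refine MulEquiv.ext fun z => Subtype.ext ?_
    obtain ⟨z, hz⟩ := z
    obtain ⟨x, rfl⟩ := (mem_img hPS).mp hz
    refine (hyx ⟨th θ x, hz⟩).trans ?_
    refine Eq.trans ?_ (hres ⟨conjAut P t hn, hconjA htT hn⟩ x hz).symm
    exact (th_conj θ htS (hPS x.2)).symm
  have hMS : (M : Subgroup G) ≤ MS := fun m hm => by
    obtain ⟨k, hk, a, ha, rfl⟩ := hMK m hm
    exact mul_mem (hKS hk) (hAS ha)
  have hKc : ∀ k ∈ K, ∀ l ∈ K, k * l = l * k := fun k hk l hl =>
    Subtype.ext (c.kerA_comm hPS hk hl)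
  have hKn : ∀ κ ∈ K, ∀ g : G, g * κ * g⁻¹ ∈ K := fun κ hκ g =>
    c.kerA_conj hPS ((c.mem_hatA hP.leT).mp g.2).1 hκ
  have hTC : ∀ {a : MulAut P} {g : G}, TConj F T P a →
      TConj F T P ((g : MulAut P) * a * (g : MulAut P)⁻¹) := fun {a g} ha => by
    have := tConj_congr ((mem_autGroup_iff F hPS).mp ((c.mem_hatA hP.leT).mp g.2).1)
      (range_subtype_comp_aut (g : MulAut P)) ha
    rwa [congr_aut_eq] at this
  have hsc : ∀ a ∈ A, ∀ g : G, g * a * g⁻¹ ∈ (M : Subgroup G) → g * a * g⁻¹ ∈ A := by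
    intro a ha g hg
    obtain ⟨t, ht, htx⟩ := mem_autInducedBy_iff.mp (Subgroup.mem_subgroupOf.mp ha)
    have hTa : TConj F T P (a : MulAut P) := by
      rw [conjAut_map_congr (normalizer_of_induced htx) htx]
      exact tConj_conjAut hTS hP.leT ht _
    exact c.tConj_mem hrec (hTC hTa) (hMS hg)
  have hcent : ∀ g : G, ∀ κ ∈ K, g * κ * g⁻¹ * κ⁻¹ ∈ A := by
    refine commutator_mem_of_generators (((M : Subgroup G) : Set G) ∪ {x : G | (orderOf x).Coprime p}) ?_ hKn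
      (fun a ha g h => hsc a ha g (hKM h)) ?_
    · rw [Subgroup.closure_union, Subgroup.closure_eq]
      exact CfsgLib.FusionSub.sylow_sup_pResidual M
    rintro g (hg | hg) κ hκ
    · obtain ⟨k, hk, a, ha, rfl⟩ := hMK g hg
      have hu : a * κ * a⁻¹ * κ⁻¹ ∈ A := by
        obtain ⟨t, ht, htx⟩ := mem_autInducedBy_iff.mp (Subgroup.mem_subgroupOf.mp ha)
        obtain ⟨s, hs, hsx⟩ := mem_autInducedBy_iff.mp (hKS hκ)
        refine mem_autInducedBy_iff.mpr ⟨t * (s * t⁻¹ * s⁻¹),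
          T.mul_mem ht (stronglyClosed_conj c.tclosed hs (T.inv_mem ht)), fun x => ?_⟩
        replace hsx : ∀ z : P, (((κ : MulAut P) z : P) : Ω) = s * z * s⁻¹ := hsx
        replace htx : ∀ z : P, (((a : MulAut P) z : P) : Ω) = t * z * t⁻¹ := htx
        show (((a : MulAut P) ((κ : MulAut P) ((a : MulAut P)⁻¹ ((κ : MulAut P)⁻¹ x))) : P) : Ω) = _
        set w := ((κ : MulAut P)⁻¹ x) with hwdef
        have hw : (x : Ω) = s * w * s⁻¹ := by rw [← hsx, hwdef, MulAut.apply_inv_self]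
        set v := ((a : MulAut P)⁻¹ w) with hvdef
        have hv : (w : Ω) = t * v * t⁻¹ := by rw [← htx, hvdef, MulAut.apply_inv_self]
        rw [htx, hsx, hw, hv]
        group
      have hu' : a * κ * a⁻¹ * κ⁻¹ ∈ K := K.mul_mem (hKn κ hκ a) (K.inv_mem hκ)
      have e : (k * a) * κ * (k * a)⁻¹ * κ⁻¹ = a * κ * a⁻¹ * κ⁻¹ := by
        have h1 : k * (a * κ * a⁻¹) = (a * κ * a⁻¹) * k := hKc k hk _ (hKn κ hκ a)
        calc (k * a) * κ * (k * a)⁻¹ * κ⁻¹ = (k * (a * κ * a⁻¹)) * k⁻¹ * κ⁻¹ := by group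
          _ = (a * κ * a⁻¹ * k) * k⁻¹ * κ⁻¹ := by rw [h1]
          _ = _ := by group
      rw [e]
      exact hu
    · obtain ⟨s, hs, hsx⟩ := mem_autInducedBy_iff.mp (hKS hκ)
      replace hsx : ∀ z : P, (((κ : MulAut P) z : P) : Ω) = s * z * s⁻¹ := hsx
      have hgco : (orderOf (g : MulAut P)).Coprime p := by rwa [Subgroup.orderOf_coe]
      have hyC : th θ s ∈ centralizerIn S' U := by
        refine ⟨c.th_mem hs, fun z hz => ?_⟩
        obtain ⟨x, rfl⟩ := (mem_img hPS).mp hz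
        have h := (Subgroup.mem_subgroupOf.mp hκ).2 x
        rw [hsx, th_conj θ hs (hPS x.2), mul_inv_eq_iff_eq_mul] at h
        exact h.symm
      obtain ⟨V, hUV, hyV, γ, hVS, hγ, hγy, hγx⟩ :=
        c.exists_coprime_extension hP hU g.2 hgco hyC
      obtain ⟨φ, hφ, hi⟩ := c.exists_lift ((mem_autGroup_iff E hVS).mp hγ)
      have hPV : ∀ x : P, (x : Ω) ∈ preimageAlong θ V := fun x =>
        mem_pre.mpr ⟨hPS x.2, hUV (th_mem_img hPS x.2)⟩
      have hsV : s ∈ preimageAlong θ V := mem_pre.mpr ⟨hs, hyV⟩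
      have hφth : ∀ x : P, th θ (φ ⟨x, hPV x⟩) = th θ (((g : MulAut P) x : P) : Ω) := fun x =>
        (hi ⟨x, hPV x⟩ (hUV (th_mem_img hPS x.2))).symm.trans (hγx x _)
      have hφP : ∀ x : P, (φ.comp (Subgroup.inclusion fun z hz => hPV ⟨z, hz⟩)) x ∈ P := fun x => by
        refine (c.pre_img hPS hP.zle).le (mem_pre.mpr ⟨apply_mem hφ _, ?_⟩)
        show th θ (φ ⟨x, hPV x⟩) ∈ _
        rw [hφth]
        exact th_mem_img hPS ((g : MulAut P) x).2
      obtain ⟨g', hg', hg'x⟩ := exists_aut_of_hom' F (restrict_mem hφ _) hφP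
      have hgF := ((c.mem_hatA hP.leT).mp g.2).1
      have hμ : (g : MulAut P)⁻¹ * g' ∈ kerA F θ P := by
        refine ⟨mul_mem (inv_mem hgF) hg', fun x => ?_⟩
        obtain ⟨g₁, -, hi₁⟩ := c.exists_autInd hPS hgF
        have h1 := hi₁ ((g : MulAut P)⁻¹ (g' x)) (th_mem_img hPS (Subtype.mem _))
        change ((g₁ _ : imageAlong θ P) : Γ) =
          th θ (((g : MulAut P) ((g : MulAut P)⁻¹ (g' x)) : P) : Ω) at h1
        rw [MulAut.apply_inv_self, hg'x,
          show (φ.comp (Subgroup.inclusion fun z hz => hPV ⟨z, hz⟩)) x = φ ⟨x, hPV x⟩ from rfl,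
          hφth x] at h1
        have h2 := hi₁ x (th_mem_img hPS x.2)
        have h3 := g₁.injective (Subtype.ext (h1.trans h2.symm))
        exact congrArg Subtype.val h3
      have hconj : g' * (κ : MulAut P) * g'⁻¹ = (g : MulAut P) * κ * (g : MulAut P)⁻¹ := by
        have h1 := c.kerA_comm hPS hμ (Subgroup.mem_subgroupOf.mp hκ)
        calc g' * (κ : MulAut P) * g'⁻¹
            = (g : MulAut P) * (((g : MulAut P)⁻¹ * g') * κ) * g'⁻¹ := by group
          _ = (g : MulAut P) * ((κ : MulAut P) * ((g : MulAut P)⁻¹ * g')) * g'⁻¹ := by rw [h1]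
          _ = _ := by group
      refine mem_autInducedBy_iff.mpr ⟨φ ⟨s, hsV⟩ * s⁻¹, mem_pre.mpr
        ⟨S.mul_mem (apply_mem hφ _) (S.inv_mem hs), ?_⟩, fun x => ?_⟩
      · rw [th_mul θ (apply_mem hφ _) (S.inv_mem hs), th_inv θ hs,
          ← hi ⟨s, hsV⟩ hyV]
        have hT := stronglyClosed_conj c.dclosed (c.th_mem hs) hγy
        rw [mul_inv_cancel_left] at hT
        exact hT
      · show ((((g : MulAut P) * (κ : MulAut P) * (g : MulAut P)⁻¹ * (κ : MulAut P)⁻¹) x : P) : Ω) = _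
        rw [← hconj]
        simp only [MulAut.mul_apply]
        set w := ((κ : MulAut P)⁻¹ x) with hwdef
        have hw : (x : Ω) = s * w * s⁻¹ := by rw [← hsx, hwdef, MulAut.apply_inv_self]
        set v := g'⁻¹ w with hvdef
        have hv : (w : Ω) = φ ⟨v, hPV v⟩ := by
          rw [← show ((g' v : P) : Ω) = φ ⟨v, hPV v⟩ from hg'x v, hvdef, MulAut.apply_inv_self]
        rw [hg'x]
        have he : ((Subgroup.inclusion fun z hz => hPV ⟨z, hz⟩ :
            P →* preimageAlong θ V) ((κ : MulAut P) v)) =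
            ⟨s, hsV⟩ * ⟨v, hPV v⟩ * ⟨s, hsV⟩⁻¹ := Subtype.ext (hsx v)
        rw [MonoidHom.comp_apply, he, map_mul, map_mul, map_inv, ← hv, hw]
        group
  set X : Set G := {x | (orderOf x).Coprime p ∨ ∃ g : G, g * x * g⁻¹ ∈ A}
  have hgen : genA F θ D p P ≤ (Subgroup.closure X).map G.subtype := by
    rw [MonoidHom.map_closure]
    refine (Subgroup.closure_le _).mpr ?_
    rintro α (hα | hα)
    · have hαG : α ∈ G := Subgroup.subset_closure ⟨hα.1, hα.2.2⟩
      refine Subgroup.subset_closure ⟨⟨α, hαG⟩, Or.inl ?_, rfl⟩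
      rw [Subgroup.orderOf_mk]
      exact hα.2.1
    · have hαG : α ∈ G := c.genA_le_hatA (Subgroup.subset_closure (Or.inr hα))
      refine Subgroup.subset_closure ⟨⟨α, hαG⟩, Or.inr ?_, rfl⟩
      obtain ⟨k, hk⟩ := c.exists_pow_of_tConj hα
      have hp : IsPGroup p (Subgroup.zpowers (⟨α, hαG⟩ : G)) := by
        obtain ⟨e, -, he⟩ := (Nat.dvd_prime_pow Fact.out).mp
          (orderOf_dvd_of_pow_eq_one (x := (⟨α, hαG⟩ : G)) (Subtype.ext hk))
        exact IsPGroup.of_card (n := e) (by rw [Nat.card_zpowers, he])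
      obtain ⟨N, hN⟩ := hp.exists_le_sylow
      obtain ⟨g, hg⟩ := MulAction.exists_smul_eq G N M
      have hgM : g * ⟨α, hαG⟩ * g⁻¹ ∈ (M : Subgroup G) := by
        rw [← hg]
        exact ⟨⟨α, hαG⟩, hN (Subgroup.mem_zpowers _), rfl⟩
      exact ⟨g, c.tConj_mem hrec (hTC hα) (hMS hgM)⟩
  obtain ⟨b, hb, hbβ⟩ := hgen hβG
  subst hbβ
  have hbA : b ∈ A := mem_of_transfer M hAM hKM hMK hKc hsc hcent
    (X := X) (fun x hx => hx) hβK hb
  obtain ⟨t, ht, htx⟩ := mem_autInducedBy_iff.mp (Subgroup.mem_subgroupOf.mp hbA)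
  refine ⟨t, (c.pre_img hPS hP.zle).le (mem_pre.mpr ⟨hTS ht, ?_⟩), htx⟩
  refine hP.cen.2 _ (isConj_refl D (c.img_le_T hP.leT)) ⟨(mem_pre.mp ht).2, fun z hz => ?_⟩
  obtain ⟨x, rfl⟩ := (mem_img hPS).mp hz
  have h : th θ (((b : MulAut P) x : P) : Ω) = th θ x := hβK.2 x
  rw [htx, th_conj θ (hTS ht) (hPS x.2), mul_inv_eq_iff_eq_mul] at h
  exact h.symm

/-- The generated automorphisms trivial on the image are inner. -/
theorem genA_inner {P : Subgroup Ω} (hP : Ok θ Z D P) {β : MulAut P}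
    (hβG : β ∈ genA F θ D p P) (hβK : β ∈ kerA F θ P) :
    ∃ u ∈ P, ∀ x : P, ((β x : P) : Ω) = u * x * u⁻¹ := by
  obtain ⟨P₀, χ, hχ, hr, hP₀, hU, hn⟩ := c.exists_star hP
  obtain ⟨w, hw, hwx⟩ := c.genA_inner_of_fullyNormalized hP₀ hU hn
    (c.genA_congr hP.leT hχ hr hβG) (c.kerA_congr hχ hr hβK)
  obtain ⟨u, hu⟩ := hr.ge hw
  refine ⟨u, u.2, fun x => ?_⟩
  have h := hwx ⟨χ x, hr.le ⟨x, rfl⟩⟩
  rw [congr_isoOfHom_apply] at h
  have h2 : χ (β x) = χ (u * x * u⁻¹) := by rw [map_mul, map_mul, map_inv, hu]; exact h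
  exact congrArg Subtype.val (F.injective_of_mem hχ h2)

end LCtx

end CfsgLib.FusionLifting
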