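import Mathlib.GroupTheory.Transfer
import Mathlib.GroupTheory.QuotientGroup.Basic
import Mathlib.GroupTheory.Sylow

/-!
A transfer argument: in a group with a Sylow subgroup `A K`, `A` strongly closed and `K` central
modulo `A`, the elements of order prime to `p` and the conjugates of elements of `A` generate a
subgroup meeting `K` inside `A`.
-/

set_option autoImplicit false
set_option linter.style.haveILetI false

namespace CfsgLib.FusionLifting

variable {G : Type*} [Group G] [Finite G] {A K : Subgroup G} {p : ℕ} [hp : Fact p.Prime]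

/-- Centrality modulo `A` may be checked on generators. -/
theorem commutator_mem_of_generators (Y : Set G) (hY : Subgroup.closure Y = ⊤)
    (hKn : ∀ κ ∈ K, ∀ g : G, g * κ * g⁻¹ ∈ K)
    (hclose : ∀ a ∈ A, ∀ g : G, g * a * g⁻¹ ∈ K → g * a * g⁻¹ ∈ A)
    (h : ∀ y ∈ Y, ∀ κ ∈ K, y * κ * y⁻¹ * κ⁻¹ ∈ A) :
    ∀ g : G, ∀ κ ∈ K, g * κ * g⁻¹ * κ⁻¹ ∈ A := by
  intro g
  have hg : g ∈ Subgroup.closure Y := hY ▸ Subgroup.mem_top g
  induction hg using Subgroup.closure_induction with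
  | mem x hx => exact h x hx
  | one => intro κ _; simp
  | mul x y _ _ hx hy =>
    intro κ hκ
    have h1 := hy κ hκ
    have hK1 : x * (y * κ * y⁻¹ * κ⁻¹) * x⁻¹ ∈ K :=
      hKn _ (K.mul_mem (hKn κ hκ y) (K.inv_mem hκ)) x
    have := A.mul_mem (hclose _ h1 x hK1) (hx κ hκ)
    convert this using 1
    group
  | inv x _ hx =>
    intro κ hκ
    have hk' : x⁻¹ * κ * x ∈ K := by
      have := hKn κ hκ x⁻¹
      rwa [inv_inv] at this
    have := A.inv_mem (hx _ hk')
    convert this using 1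
    group

/-- The transfer argument. -/
theorem mem_of_transfer (M : Sylow p G) (hAM : A ≤ (M : Subgroup G)) (hKM : K ≤ (M : Subgroup G))
    (hM : ∀ m ∈ (M : Subgroup G), ∃ k ∈ K, ∃ a ∈ A, m = k * a)
    (hK : ∀ k ∈ K, ∀ l ∈ K, k * l = l * k)
    (hsc : ∀ a ∈ A, ∀ g : G, g * a * g⁻¹ ∈ (M : Subgroup G) → g * a * g⁻¹ ∈ A)
    (hcent : ∀ g : G, ∀ κ ∈ K, g * κ * g⁻¹ * κ⁻¹ ∈ A) {X : Set G}
    (hX : ∀ x ∈ X, (orderOf x).Coprime p ∨ ∃ g : G, g * x * g⁻¹ ∈ A) {κ : G} (hκ : κ ∈ K)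
    (hκX : κ ∈ Subgroup.closure X) : κ ∈ A := by
  classical
  set H : Subgroup G := (M : Subgroup G) with hHdef
  set N : Subgroup H := A.subgroupOf H with hNdef
  haveI hN : N.Normal := ⟨fun a ha m => hsc (a : G) ha (m : G) (m * a * m⁻¹).2⟩
  letI : CommGroup (H ⧸ N) :=
    { QuotientGroup.Quotient.group N with
      mul_comm := by
        rintro ⟨x⟩ ⟨y⟩
        obtain ⟨k, hk, a, ha, hx⟩ := hM x x.2
        obtain ⟨l, hl, b, hb, hy⟩ := hM y y.2
        have ex : (x : H ⧸ N) = ((⟨k, hKM hk⟩ : H) : H ⧸ N) := by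
          rw [QuotientGroup.eq]
          show (x : G)⁻¹ * k ∈ A
          rw [hx, mul_inv_rev, inv_mul_cancel_right]
          exact A.inv_mem ha
        have ey : (y : H ⧸ N) = ((⟨l, hKM hl⟩ : H) : H ⧸ N) := by
          rw [QuotientGroup.eq]
          show (y : G)⁻¹ * l ∈ A
          rw [hy, mul_inv_rev, inv_mul_cancel_right]
          exact A.inv_mem hb
        show (x : H ⧸ N) * (y : H ⧸ N) = (y : H ⧸ N) * (x : H ⧸ N)
        rw [ex, ey, ← QuotientGroup.mk_mul, ← QuotientGroup.mk_mul]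
        exact congrArg _ (Subtype.ext (hK k hk l hl)) }
  let ϕ : H →* H ⧸ N := QuotientGroup.mk' N
  haveI : H.FiniteIndex := inferInstance
  let V : G →* H ⧸ N := MonoidHom.transfer ϕ
  obtain ⟨e, he⟩ := IsPGroup.iff_card.mp (M.2.to_quotient N)
  have hcop : ∀ x : G, (orderOf x).Coprime p → V x = 1 := fun x hx => by
    refine orderOf_eq_one_iff.mp (Nat.eq_one_of_dvd_coprimes (hx.pow_right e)
      (orderOf_map_dvd V x) ?_)
    exact (orderOf_dvd_natCard _).trans he.dvd
  letI : Fintype (G ⧸ H) := H.fintypeQuotientOfFiniteIndex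
  have hA : ∀ a ∈ A, V a = 1 := fun a ha => by
    rw [show V a = _ from MonoidHom.transfer_eq_prod_quotient_orbitRel_zpowers_quot ϕ a]
    refine Finset.prod_eq_one fun q _ => (QuotientGroup.eq_one_iff _).mpr ?_
    show _ ∈ A
    have hm := QuotientGroup.out_conj_pow_minimalPeriod_mem H a q.out
    have := hsc _ (A.pow_mem ha (Function.minimalPeriod (a • ·) q.out)) q.out.out⁻¹
    rw [inv_inv] at this
    exact this hm
  have hconj : ∀ x g : G, g * x * g⁻¹ ∈ A → V x = 1 := fun x g h => by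
    have := hA _ h
    rwa [map_mul, map_mul, map_inv, mul_comm (V g), mul_inv_cancel_right] at this
  have hker : Subgroup.closure X ≤ V.ker := (Subgroup.closure_le _).mpr fun x hx => by
    rcases hX x hx with h | ⟨g, hg⟩
    · exact hcop x h
    · exact hconj x g hg
  have h1 : V κ = 1 := hker hκX
  rw [show V κ = _ from MonoidHom.transfer_eq_prod_quotient_orbitRel_zpowers_quot ϕ κ] at h1
  have h2 : ∀ q : Quotient (MulAction.orbitRel (Subgroup.zpowers κ) (G ⧸ H)),
      ϕ ⟨q.out.out⁻¹ * κ ^ Function.minimalPeriod (κ • ·) q.out * q.out.out,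
        QuotientGroup.out_conj_pow_minimalPeriod_mem H κ q.out⟩ =
      ϕ ⟨κ, hKM hκ⟩ ^ Function.minimalPeriod (κ • ·) q.out := fun q => by
    rw [← map_pow]
    symm
    refine QuotientGroup.eq.mpr ?_
    show (κ ^ Function.minimalPeriod (κ • ·) q.out)⁻¹ * _ ∈ A
    set k := κ ^ Function.minimalPeriod (κ • ·) q.out
    set g := q.out.out⁻¹ with hg
    have hk : k ∈ K := K.pow_mem hκ _
    have h3 := hcent g k hk
    have h4 := hsc _ h3 k⁻¹ ?_
    · rw [inv_inv] at h4
      show k⁻¹ * (g * k * q.out.out) ∈ A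
      convert h4 using 1
      simp [hg, mul_assoc]
    · exact H.mul_mem (H.mul_mem (H.inv_mem (hKM hk)) (hAM h3)) (H.inv_mem (H.inv_mem (hKM hk)))
  rw [Finset.prod_congr rfl fun q _ => h2 q, Finset.prod_pow_eq_pow_sum,
    ← Subgroup.index_eq_sum_minimalPeriod H κ] at h1
  have h3 : ϕ ⟨κ, hKM hκ⟩ = 1 := by
    refine orderOf_eq_one_iff.mp (Nat.eq_one_of_dvd_coprimes ?_ (orderOf_dvd_of_pow_eq_one h1)
      ((orderOf_dvd_natCard _).trans he.dvd))
    exact ((hp.out.coprime_iff_not_dvd.mpr M.not_dvd_index).symm).pow_right e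
  exact (QuotientGroup.eq_one_iff (N := N) ⟨κ, hKM hκ⟩).mp h3

end CfsgLib.FusionLifting
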