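import Cfsg.Agent.Lib.FusionLifting.Induced
import Cfsg.Agent.Lib.FusionLifting.Transfer
import Cfsg.Agent.Lib.FusionModels.Quotient
import Cfsg.Agent.Lib.Alperin.LeastNormal
import Cfsg.Agent.Lib.FusionProduct.Saturated
import Cfsg.Agent.Lib.FusionProduct.Existence
import Cfsg.Agent.Lib.FusionBasics.Criterion.Tools

/-!
At a subgroup whose image is centric in `D`, the lifts of order prime to `p` and the transported
conjugations by elements of the preimage of `T'` generate a group meeting the kernel of the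
restriction to the image in inner automorphisms.
-/

set_option autoImplicit false
set_option linter.style.haveILetI false
set_option linter.unusedSectionVars false

namespace CfsgLib.FusionLifting

open Cfsg Cfsg.FusionSystem CfsgLib.Alperin CfsgLib.FusionSub CfsgLib.FusionBasics

universe u v

variable {Ω : Type u} [Group Ω] {Γ : Type v} [Group Γ] {S Z : Subgroup Ω} {S' T' : Subgroup Γ}
  {F : FusionSystem S} {θ : S →* Γ} {E : FusionSystem S'} {D : FusionSystem T'} {p : ℕ}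
  [Fact p.Prime] [Finite S]

/-- `P` lies between `Z` and the preimage of `T'`, and its image is centric in `D`. -/
structure Ok (θ : S →* Γ) (Z : Subgroup Ω) (D : FusionSystem T') (P : Subgroup Ω) : Prop where
  zle : Z ≤ P
  leT : P ≤ preimageAlong θ T'
  cen : D.IsCentric (imageAlong θ P)

theorem Ok.leS {P : Subgroup Ω} (h : Ok θ Z D P) : P ≤ S := h.leT.trans (preimageAlong_le θ T')

/-- The automorphisms in `F` inducing automorphisms in `D`. -/
def hatA (F : FusionSystem S) (θ : S →* Γ) (D : FusionSystem T') (P : Subgroup Ω) :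
    Subgroup (MulAut P) :=
  Subgroup.closure {β | β ∈ F.autGroup P ∧ IndD F θ D P (P.subtype.comp β.toMonoidHom)}

/-- The automorphisms in `F` that are trivial on the image. -/
def kerA (F : FusionSystem S) (θ : S →* Γ) (P : Subgroup Ω) : Subgroup (MulAut P) where
  carrier := {β | β ∈ F.autGroup P ∧ ∀ x : P, th θ ((β x : P) : Ω) = th θ x}
  one_mem' := ⟨one_mem _, fun _ => rfl⟩
  mul_mem' {β γ} hβ hγ := ⟨mul_mem hβ.1 hγ.1, fun x => (hβ.2 (γ x)).trans (hγ.2 x)⟩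
  inv_mem' {β} hβ := ⟨inv_mem hβ.1, fun x => by
    have h := hβ.2 (β⁻¹ x)
    rw [MulAut.apply_inv_self] at h
    exact h.symm⟩

/-- A lift of order prime to `p` of an automorphism in `D`. -/
def PLift (F : FusionSystem S) (θ : S →* Γ) (D : FusionSystem T') (p : ℕ) (P : Subgroup Ω)
    (β : MulAut P) : Prop :=
  β ∈ F.autGroup P ∧ (orderOf β).Coprime p ∧ IndD F θ D P (P.subtype.comp β.toMonoidHom)

/-- A transported conjugation by an element of the preimage of `T'`. -/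
def TConj (F : FusionSystem S) (T : Subgroup Ω) (P : Subgroup Ω) (β : MulAut P) : Prop :=
  ∃ (R : Subgroup Ω) (χ : R →* Ω) (hχ : χ ∈ F.Hom R) (hr : χ.range = P) (t : Ω)
    (ht : t ∈ Subgroup.normalizer (R : Set Ω)), R ≤ T ∧ t ∈ T ∧
      β = MulAut.congr (isoOfHom χ (F.injective_of_mem hχ) hr) (conjAut R t ht)

/-- The generated automorphisms. -/
def genA (F : FusionSystem S) (θ : S →* Γ) (D : FusionSystem T') (p : ℕ) (P : Subgroup Ω) :
    Subgroup (MulAut P) :=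
  Subgroup.closure {β | PLift F θ D p P β ∨ TConj F (preimageAlong θ T') P β}

theorem congr_isoOfHom_apply {P Q : Subgroup Ω} (φ : P →* Ω) (hinj : Function.Injective φ)
    (hr : φ.range = Q) (β : MulAut P) (x : P) (h : φ x ∈ Q) :
    ((MulAut.congr (isoOfHom φ hinj hr) β ⟨φ x, h⟩ : Q) : Ω) = φ (β x) := by
  rw [show (⟨φ x, h⟩ : Q) = isoOfHom φ hinj hr x from rfl]
  simp [MulAut.congr_apply]

theorem orderOf_congr {A B : Type*} [Group A] [Group B] (e : A ≃* B) (β : MulAut A) :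
    orderOf (MulAut.congr e β) = orderOf β :=
  (MulAut.congr e).orderOf_eq β

theorem exists_pow_coprime {G : Type*} [Group G] [Finite G] (x : G) :
    ∃ k : ℕ, (orderOf (x ^ p ^ k)).Coprime p := by
  refine ⟨(orderOf x).factorization p, ?_⟩
  rw [orderOf_pow_of_dvd (pow_ne_zero _ (Fact.out : p.Prime).ne_zero) (Nat.ordProj_dvd _ p)]
  exact (Nat.coprime_ordCompl (Fact.out : p.Prime) (orderOf_pos x).ne').symm

theorem conjAut_map_congr {P : Subgroup Ω} {g : Ω} (hg : g ∈ Subgroup.normalizer (P : Set Ω))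
    {α : MulAut P} (h : ∀ x : P, ((α x : P) : Ω) = g * x * g⁻¹) : α = conjAut P g hg :=
  MulEquiv.ext fun x => Subtype.ext (h x)

namespace LCtx

variable (c : LCtx F Z θ E D p)
include c

theorem mem_hatA {P : Subgroup Ω} (hP : P ≤ preimageAlong θ T') {β : MulAut P} :
    β ∈ hatA F θ D P ↔ β ∈ F.autGroup P ∧ IndD F θ D P (P.subtype.comp β.toMonoidHom) := by
  have hPS := hP.trans (preimageAlong_le θ T')
  refine ⟨fun h => ?_, fun h => Subgroup.subset_closure h⟩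
  induction h using Subgroup.closure_induction with
  | mem x hx => exact hx
  | one => exact ⟨one_mem _, c.indD_of_th_eq (c.indD_incl hP)
      ((mem_autGroup_iff F hPS).mp (one_mem _)) fun _ => rfl⟩
  | mul x y _ _ hx hy =>
    exact ⟨mul_mem hx.1 hy.1, c.indD_comp hy.2 hx.2 (fun z => (y z).2) fun z => rfl⟩
  | inv x _ hx =>
    refine ⟨inv_mem hx.1, c.indD_inv hx.2 (range_subtype_comp_aut x)
      ((mem_autGroup_iff F hPS).mp (inv_mem hx.1)) fun z h => ?_⟩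
    show (((x⁻¹ : MulAut P) (x z) : P) : Ω) = z
    rw [MulAut.inv_apply_self]

theorem kerA_le_hatA {P : Subgroup Ω} (hP : P ≤ preimageAlong θ T') :
    kerA F θ P ≤ hatA F θ D P := fun β hβ =>
  (c.mem_hatA hP).mpr ⟨hβ.1, c.indD_of_th_eq (c.indD_incl hP)
    ((mem_autGroup_iff F (hP.trans (preimageAlong_le θ T'))).mp hβ.1) hβ.2⟩

/-- Maps of `F` transport the automorphisms inducing automorphisms in `D`. -/
theorem hatA_congr {P Q : Subgroup Ω} (hP : P ≤ preimageAlong θ T') {χ : P →* Ω}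
    (hχ : χ ∈ F.Hom P) (hr : χ.range = Q) {β : MulAut P} (hβ : β ∈ hatA F θ D P) :
    MulAut.congr (isoOfHom χ (F.injective_of_mem hχ) hr) β ∈ hatA F θ D Q := by
  have hPS := hP.trans (preimageAlong_le θ T')
  obtain ⟨hβF, hβD⟩ := (c.mem_hatA hP).mp hβ
  set β₁ := MulAut.congr (isoOfHom χ (F.injective_of_mem hχ) hr) β with hβ₁
  have hβ₁F : β₁ ∈ F.autGroup Q := (autGroup_map_congr hχ hr).le ⟨β, hβF, rfl⟩
  have hQT : Q ≤ preimageAlong θ T' := hr ▸ fun y ⟨x, hx⟩ =>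
    hx ▸ stronglyClosed_apply c.tclosed hχ x (hP x.2)
  refine (c.mem_hatA hQT).mpr ⟨hβ₁F, ?_⟩
  obtain ⟨β', hβ'E, hi⟩ := c.exists_autInd hPS hβF
  have hβ'D := (c.indD_aut_iff hP hβF hi).mp hβD
  obtain ⟨χ', hχ', hj⟩ := c.exists_ind hχ
  have hr' : χ'.range = imageAlong θ Q := by rw [← c.ind_range hχ hj, hr]
  have hdec : Decomp D E (imageAlong θ P) χ' :=
    c.nrm.1.2.2.2.2.2 _ (c.img_le_T hP) χ' hχ'
  have h := congr_mem_autGroup c.nrm.1.2.2.2.2.1 hdec (E.injective_of_mem hχ') hr' hβ'D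
  refine (c.indD_aut_iff hQT hβ₁F ?_).mpr h
  intro y hy
  obtain ⟨x, hx⟩ := hr.ge y.2
  have hxP : th θ (x : Ω) ∈ imageAlong θ P := th_mem_img hPS x.2
  have e1 : th θ (y : Ω) = χ' ⟨th θ x, hxP⟩ := by rw [hj x hxP, hx]
  show ((MulAut.congr (isoOfHom χ' (E.injective_of_mem hχ') hr') β' ⟨th θ y, hy⟩ :
    imageAlong θ Q) : Γ) = th θ ((β₁ y : Q) : Ω)
  have e2 : (⟨th θ y, hy⟩ : imageAlong θ Q) = ⟨χ' ⟨th θ x, hxP⟩, e1 ▸ hy⟩ := Subtype.ext e1
  rw [e2, congr_isoOfHom_apply]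
  have e3 : y = ⟨χ x, hx ▸ y.2⟩ := Subtype.ext hx.symm
  rw [e3, hβ₁, congr_isoOfHom_apply]
  refine Eq.trans (congrArg χ' (Subtype.ext (hi x hxP) :
    β' ⟨th θ x, hxP⟩ = ⟨th θ ((β x : P) : Ω), th_mem_img hPS (β x).2⟩)) ?_
  exact hj (β x) _

theorem kerA_congr {P Q : Subgroup Ω} {χ : P →* Ω}
    (hχ : χ ∈ F.Hom P) (hr : χ.range = Q) {β : MulAut P} (hβ : β ∈ kerA F θ P) :
    MulAut.congr (isoOfHom χ (F.injective_of_mem hχ) hr) β ∈ kerA F θ Q := by
  have hPS := dom_le hχ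
  refine ⟨(autGroup_map_congr hχ hr).le ⟨β, hβ.1, rfl⟩, fun y => ?_⟩
  obtain ⟨x, hx⟩ := hr.ge y.2
  have e : y = ⟨χ x, hx ▸ y.2⟩ := Subtype.ext hx.symm
  rw [e, congr_isoOfHom_apply]
  obtain ⟨χ', hχ', hj⟩ := c.exists_ind hχ
  rw [← hj (β x) (th_mem_img hPS (β x).2), ← hj x (th_mem_img hPS x.2)]
  exact congrArg χ' (Subtype.ext (hβ.2 x))

theorem pLift_congr {P Q : Subgroup Ω} (hP : P ≤ preimageAlong θ T') {χ : P →* Ω}
    (hχ : χ ∈ F.Hom P) (hr : χ.range = Q) {β : MulAut P} (hβ : PLift F θ D p P β) :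
    PLift F θ D p Q (MulAut.congr (isoOfHom χ (F.injective_of_mem hχ) hr) β) := by
  have h := c.hatA_congr hP hχ hr ((c.mem_hatA hP).mpr ⟨hβ.1, hβ.2.2⟩)
  have hQT : Q ≤ preimageAlong θ T' := hr ▸ fun y ⟨x, hx⟩ =>
    hx ▸ stronglyClosed_apply c.tclosed hχ x (hP x.2)
  obtain ⟨h1, h2⟩ := (c.mem_hatA hQT).mp h
  exact ⟨h1, by rw [orderOf_congr]; exact hβ.2.1, h2⟩

omit [Fact p.Prime] [Finite S] c in
theorem tConj_congr {T P Q : Subgroup Ω} {χ : P →* Ω}
    (hχ : χ ∈ F.Hom P) (hr : χ.range = Q) {β : MulAut P} (hβ : TConj F T P β) :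
    TConj F T Q (MulAut.congr (isoOfHom χ (F.injective_of_mem hχ) hr) β) := by
  obtain ⟨R, η, hη, hηr, t, ht, hRT, htT, rfl⟩ := hβ
  have hm : ∀ x : R, η x ∈ P := fun x => hηr.le ⟨x, rfl⟩
  refine ⟨R, χ.comp (η.codRestrict P hm), F.comp_mem hη hχ hm, ?_, t, ht, hRT, htT, ?_⟩
  · refine le_antisymm ?_ ?_
    · rintro _ ⟨x, rfl⟩
      exact hr.le ⟨_, rfl⟩
    · intro y hy
      obtain ⟨x, rfl⟩ := hr.ge hy
      obtain ⟨w, hw⟩ := hηr.ge x.2
      exact ⟨w, congrArg χ (Subtype.ext hw)⟩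
  · refine MulEquiv.ext fun y => Subtype.ext ?_
    obtain ⟨x, hx⟩ := hr.ge y.2
    obtain ⟨w, hw⟩ := hηr.ge x.2
    have ex : x = ⟨η w, hw ▸ x.2⟩ := Subtype.ext hw.symm
    have ey : y = ⟨χ x, hx ▸ y.2⟩ := Subtype.ext hx.symm
    rw [ey, congr_isoOfHom_apply]
    have h2 : (χ.comp (η.codRestrict P hm)) w = χ x := congrArg χ (Subtype.ext hw)
    have ey' : (⟨χ x, hx ▸ y.2⟩ : Q) = ⟨(χ.comp (η.codRestrict P hm)) w, h2 ▸ (hx ▸ y.2)⟩ :=
      Subtype.ext h2.symm
    rw [ey', congr_isoOfHom_apply]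
    refine congrArg χ (Subtype.ext ?_)
    rw [ex, congr_isoOfHom_apply]
    rfl

theorem genA_congr {P Q : Subgroup Ω} (hP : P ≤ preimageAlong θ T') {χ : P →* Ω}
    (hχ : χ ∈ F.Hom P) (hr : χ.range = Q) {β : MulAut P} (hβ : β ∈ genA F θ D p P) :
    MulAut.congr (isoOfHom χ (F.injective_of_mem hχ) hr) β ∈ genA F θ D p Q := by
  refine (show genA F θ D p P ≤ (genA F θ D p Q).comap
    (MulAut.congr (isoOfHom χ (F.injective_of_mem hχ) hr)).toMonoidHom from
      (Subgroup.closure_le _).mpr fun γ hγ => Subgroup.subset_closure ?_) hβ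
  exact hγ.imp (c.pLift_congr hP hχ hr) (tConj_congr hχ hr)

omit [Fact p.Prime] [Finite S] c in
theorem tConj_conjAut {T P : Subgroup Ω} (hTS : T ≤ S) (hPT : P ≤ T) {t : Ω}
    (ht : t ∈ T) (hn : t ∈ Subgroup.normalizer (P : Set Ω)) : TConj F T P (conjAut P t hn) := by
  refine ⟨P, P.subtype, incl_mem F (hPT.trans hTS), P.range_subtype, t, hn, hPT, ht, ?_⟩
  refine MulEquiv.ext fun x => Subtype.ext ?_
  exact (congr_isoOfHom_apply P.subtype P.subtype_injective P.range_subtype (conjAut P t hn) x x.2).symm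

theorem genA_le_hatA {P : Subgroup Ω} : genA F θ D p P ≤ hatA F θ D P := by
  refine (Subgroup.closure_le _).mpr ?_
  rintro β (hβ | ⟨R, χ, hχ, hr, t, ht, hRT, htT, rfl⟩)
  · exact Subgroup.subset_closure ⟨hβ.1, hβ.2.2⟩
  · refine c.hatA_congr hRT hχ hr ((c.mem_hatA hRT).mpr ⟨?_, ?_⟩)
    · exact autInducedBy_le_autGroup F (hRT.trans (preimageAlong_le θ T'))
        (conjAut_mem (preimageAlong_le θ T' htT) ht)
    · exact c.indD_of_th_eq (c.indD_conj hRT htT)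
        ((mem_autGroup_iff F (hRT.trans (preimageAlong_le θ T'))).mp
          (autInducedBy_le_autGroup F (hRT.trans (preimageAlong_le θ T'))
            (conjAut_mem (preimageAlong_le θ T' htT) ht))) fun _ => rfl

theorem ok_map {P : Subgroup Ω} (hP : Ok θ Z D P) {φ : P →* Ω} (hφ : φ ∈ F.Hom P) :
    Ok θ Z D φ.range := by
  refine ⟨c.z_le_range hP.zle hφ, ?_, ?_⟩
  · rintro _ ⟨x, rfl⟩
    exact stronglyClosed_apply c.tclosed hφ x (hP.leT x.2)
  · obtain ⟨φ', hφ', hi⟩ := c.exists_ind hφ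
    rw [c.ind_range hφ hi]
    haveI := c.finS
    haveI := finite_of_le c.tle
    exact isCentric_of_hom_invariant c.nrm.1.2.2 hP.cen hφ'

theorem fullyNormalized_pre {U : Subgroup Γ} (hU : E.IsFullyNormalized U) :
    F.IsFullyNormalized (preimageAlong θ U) := by
  refine ⟨preimageAlong_le θ U, fun R₂ hR₂ => ?_⟩
  obtain ⟨φ, hφ, rfl⟩ := hR₂
  have hR₂S := range_le hφ
  obtain ⟨φ', hφ', hi⟩ := c.exists_ind hφ
  have hconj : E.IsConj U φ'.range := by
    refine ⟨φ'.comp (Subgroup.inclusion (c.img_pre hU.1).ge),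
      restrict_mem hφ' _, ?_⟩
    rw [range_comp_inclusion]
    refine le_antisymm ?_ ?_
    · rintro _ ⟨x, -, rfl⟩
      exact ⟨x, rfl⟩
    · rintro _ ⟨x, rfl⟩
      exact ⟨x, (c.img_pre hU.1).le x.2, rfl⟩
  have hN : ∀ X : Subgroup Γ, X ≤ S' →
      normalizerIn S (preimageAlong θ X) = preimageAlong θ (normalizerIn S' X) := by
    intro X hX
    ext y
    refine ⟨fun hy => mem_preimageAlong.mpr ⟨hy.1,
      (CfsgLib.FusionModels.mem_normalizerIn_preimage c.fac.2.2.1 hX ⟨y, hy.1⟩).mp hy⟩, fun hy => ?_⟩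
    obtain ⟨hyS, hy'⟩ := mem_preimageAlong.mp hy
    exact (CfsgLib.FusionModels.mem_normalizerIn_preimage c.fac.2.2.1 hX ⟨y, hyS⟩).mpr hy'
  rw [c.range_eq_pre (c.z_le_pre U) hφ hi, hN _ (range_le hφ'), hN _ hU.1]
  exact CfsgLib.FusionModels.card_preimageAlong_le ((normalizerIn_le S' _).trans c.fac.2.2.1.ge)
    ((normalizerIn_le S' _).trans c.fac.2.2.1.ge) (hU.2 _ hconj)

/-- A fully normalized subgroup of the factor system inside `T'` is fully normalized in `D`. -/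
theorem dFullyNormalized {U : Subgroup Γ} (hUT : U ≤ T') (hU : E.IsFullyNormalized U) :
    D.IsFullyNormalized U := by
  haveI := c.finS
  refine ⟨hUT, fun U₁ hU₁ => ?_⟩
  obtain ⟨φ, hφ, hr⟩ := hU₁
  have hU₁T : U₁ ≤ T' := hr ▸ range_le hφ
  obtain ⟨ψ, hψ, hψm, hψmap⟩ := exists_hom_normalizerIn_of_fullyNormalized c.isP' c.esat hU
    (CfsgLib.Alperin.IsConj.symm (⟨φ, c.dsub U hφ, hr⟩ : E.IsConj U U₁))
  have hle : normalizerIn T' U₁ ≤ normalizerIn S' U₁ := inf_le_inf_right _ c.tle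
  refine card_le_of_maps_to (S := S') (ψ := ψ) (E.injective_of_mem hψ) hle
    ((normalizerIn_le T' U).trans c.tle) fun x hx => ⟨stronglyClosed_apply c.dclosed hψ x hx.1, ?_⟩
  exact (hψm x).2

/-- Every subgroup is mapped onto one whose image is fully normalized in the factor system. -/
theorem exists_star {P : Subgroup Ω} (hP : Ok θ Z D P) :
    ∃ (P₀ : Subgroup Ω) (χ : P →* Ω), χ ∈ F.Hom P ∧ χ.range = P₀ ∧ Ok θ Z D P₀ ∧
      E.IsFullyNormalized (imageAlong θ P₀) ∧ F.IsFullyNormalized P₀ := by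
  haveI := c.finS
  obtain ⟨U₀, hU₀, hfull⟩ := exists_isFullyNormalized E (c.img_le P)
  obtain ⟨χ', hχ', hr'⟩ := hU₀
  obtain ⟨χ, hχ, hi⟩ := c.exists_lift hχ'
  have hle : P ≤ preimageAlong θ (imageAlong θ P) := (c.pre_img hP.leS hP.zle).ge
  set χ₁ := χ.comp (Subgroup.inclusion hle) with hχ₁
  have hχ₁F : χ₁ ∈ F.Hom P := restrict_mem hχ hle
  have hi₁ : Ind θ χ₁ χ' := fun x h => hi (Subgroup.inclusion hle x) h
  have hr : χ₁.range = preimageAlong θ U₀ := by rw [c.range_eq_pre hP.zle hχ₁F hi₁, hr']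
  refine ⟨preimageAlong θ U₀, χ₁, hχ₁F, hr, hr ▸ c.ok_map hP hχ₁F, ?_,
    c.fullyNormalized_pre hfull⟩
  rw [c.img_pre hfull.1]
  exact hfull

/-- The automorphism induced on the image. -/
theorem exists_res {P : Subgroup Ω} (hP : P ≤ preimageAlong θ T') :
    ∃ res : hatA F θ D P →* MulAut (imageAlong θ P), (∀ β, res β ∈ D.autGroup (imageAlong θ P)) ∧
      ∀ β : hatA F θ D P, Ind θ (P.subtype.comp (β : MulAut P).toMonoidHom)
        ((imageAlong θ P).subtype.comp (res β).toMonoidHom) := by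
  have hPS := hP.trans (preimageAlong_le θ T')
  have h : ∀ β : hatA F θ D P, ∃ β' : MulAut (imageAlong θ P), β' ∈ D.autGroup _ ∧
      Ind θ (P.subtype.comp (β : MulAut P).toMonoidHom)
        ((imageAlong θ P).subtype.comp β'.toMonoidHom) := fun β => by
    obtain ⟨h1, h2⟩ := (c.mem_hatA hP).mp β.2
    obtain ⟨β', -, hi⟩ := c.exists_autInd hPS h1
    exact ⟨β', (c.indD_aut_iff hP h1 hi).mp h2, hi⟩
  choose f hfD hf using h
  refine ⟨MonoidHom.mk' f fun a b => MulEquiv.ext fun y => Subtype.ext ?_, hfD, hf⟩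
  obtain ⟨y, hy⟩ := y
  obtain ⟨x, rfl⟩ := (mem_img hPS).mp hy
  refine (hf (a * b) x hy).trans ?_
  rw [MulAut.mul_apply]
  refine Eq.trans ?_ (congrArg (fun v => ((f a v : imageAlong θ P) : Γ)) (Subtype.ext (hf b x hy) :
    f b ⟨th θ x, hy⟩ = ⟨_, th_mem_img hPS ((b : MulAut P) x).2⟩)).symm
  exact (hf a ((b : MulAut P) x) _).symm

omit c in
theorem _root_.CfsgLib.FusionLifting.mem_kerA_of_res {P : Subgroup Ω} (hPS : P ≤ S)
    {β : MulAut P} (hβ : β ∈ F.autGroup P) {β' : MulAut (imageAlong θ P)}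
    (h : Ind θ (P.subtype.comp β.toMonoidHom) ((imageAlong θ P).subtype.comp β'.toMonoidHom))
    (h1 : β' = 1) : β ∈ kerA F θ P := by
  subst h1
  exact ⟨hβ, fun x => (h x (th_mem_img hPS x.2)).symm⟩

/-- An automorphism in `D` of order prime to `p` has such a lift. -/
theorem exists_pLift {P : Subgroup Ω} (hP : P ≤ preimageAlong θ T') (hZ : Z ≤ P)
    {β' : MulAut (imageAlong θ P)} (hβ' : β' ∈ D.autGroup (imageAlong θ P))
    (hco : (orderOf β').Coprime p) :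
    ∃ β, PLift F θ D p P β ∧
      Ind θ (P.subtype.comp β.toMonoidHom) ((imageAlong θ P).subtype.comp β'.toMonoidHom) := by
  have hPS := hP.trans (preimageAlong_le θ T')
  haveI := finite_of_le hPS
  haveI := finite_mulAut (P := P)
  obtain ⟨res, hresD, hres⟩ := c.exists_res hP
  obtain ⟨φ, hφ, hi⟩ := c.exists_lift (c.dsub _ ((mem_autGroup_iff D (c.img_le_T hP)).mp hβ'))
  have hle : P ≤ preimageAlong θ (imageAlong θ P) := (c.pre_img hPS hZ).ge
  have hm : ∀ x : P, (φ.comp (Subgroup.inclusion hle)) x ∈ P := fun x => by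
    refine (c.pre_img hPS hZ).le (mem_pre.mpr ⟨apply_mem hφ _, ?_⟩)
    rw [show th θ ((φ.comp (Subgroup.inclusion hle)) x) =
      ((β' ⟨th θ x, th_mem_img hPS x.2⟩ : imageAlong θ P) : Γ) from
        (hi (Subgroup.inclusion hle x) (th_mem_img hPS x.2)).symm]
    exact (β' _).2
  obtain ⟨γ, hγ, hγx⟩ := exists_aut_of_hom' F (restrict_mem hφ hle) hm
  have hiγ : Ind θ (P.subtype.comp γ.toMonoidHom)
      ((imageAlong θ P).subtype.comp β'.toMonoidHom) := fun x h =>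
    (hi (Subgroup.inclusion hle x) h).trans (congrArg (th θ) (hγx x).symm)
  have hγA : γ ∈ hatA F θ D P :=
    (c.mem_hatA hP).mpr ⟨hγ, (c.indD_aut_iff hP hγ hiγ).mpr hβ'⟩
  have hresγ : res ⟨γ, hγA⟩ = β' := MulEquiv.ext fun y => Subtype.ext (by
    obtain ⟨y, hy⟩ := y
    obtain ⟨x, rfl⟩ := (mem_img hPS).mp hy
    exact (hres ⟨γ, hγA⟩ x hy).trans (hiγ x hy).symm)
  obtain ⟨k, hk⟩ := exists_pow_coprime (p := p) γ
  obtain ⟨j, hj⟩ := exists_pow_eq_self_of_coprime (x := β') (n := p ^ k) (hco.symm.pow_left k)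
  have hmem : (γ ^ p ^ k) ^ j ∈ hatA F θ D P := pow_mem (pow_mem hγA _) _
  obtain ⟨h1, h2⟩ := (c.mem_hatA hP).mp hmem
  refine ⟨(γ ^ p ^ k) ^ j, ⟨h1, hk.coprime_dvd_left (orderOf_pow_dvd j), h2⟩, ?_⟩
  have := hres ⟨_, hmem⟩
  rwa [show (⟨(γ ^ p ^ k) ^ j, hmem⟩ : hatA F θ D P) = (⟨γ, hγA⟩ ^ p ^ k) ^ j from
    Subtype.ext rfl, map_pow, map_pow, hresγ, hj] at this

end LCtx

end CfsgLib.FusionLifting
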