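import Cfsg.Agent.Lib.FusionLifting.Generated
import Cfsg.Agent.Lib.FusionLifting.Inner
import Cfsg.Agent.Lib.FusionBasics.KSystem
import Cfsg.Agent.S5098

/-!
The step of the uniqueness of lifts: a generated map on a subgroup larger than `P₀` fixing `P₀`
restricts to a generated automorphism of `P₀`.
-/

set_option autoImplicit false
set_option linter.style.haveILetI false
set_option linter.unusedSectionVars false

namespace CfsgLib.FusionLifting

open Cfsg Cfsg.FusionSystem CfsgLib.Alperin CfsgLib.FusionSub CfsgLib.FusionBasics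

universe u v

variable {Ω : Type u} [Group Ω] {Γ : Type v} [Group Γ] {S Z : Subgroup Ω} {S' T' : Subgroup Γ}
  {F : FusionSystem S} {θ : S →* Γ} {E : FusionSystem S'} {D : FusionSystem T'} {p : ℕ}
  [Fact p.Prime] [Finite S]

/-- Above `n`, a generated automorphism lies in the group of generated automorphisms. -/
def UniqAbove (F : FusionSystem S) (θ : S →* Γ) (Z : Subgroup Ω) (D : FusionSystem T') (p n : ℕ) :
    Prop :=
  ∀ P : Subgroup Ω, Ok θ Z D P → n < Nat.card P → ∀ α : MulAut P,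
    Gen0 F θ Z D p P (P.subtype.comp α.toMonoidHom) → α ∈ genA F θ D p P

/-- An element normalizing two subgroups normalizes their join. -/
theorem mem_normalizer_sup {G : Type*} [Group G] {A B : Subgroup G} {g : G}
    (hA : g ∈ Subgroup.normalizer (A : Set G)) (hB : g ∈ Subgroup.normalizer (B : Set G)) :
    g ∈ Subgroup.normalizer ((A ⊔ B : Subgroup G) : Set G) := by
  have key : ∀ h : G, h ∈ Subgroup.normalizer (A : Set G) → h ∈ Subgroup.normalizer (B : Set G) →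
      ∀ x ∈ A ⊔ B, h * x * h⁻¹ ∈ A ⊔ B := fun h hA hB x hx => by
    refine (show A ⊔ B ≤ (A ⊔ B).comap (MulAut.conj h).toMonoidHom from
      sup_le (fun a ha => ?_) fun b hb => ?_) hx
    · exact Subgroup.mem_sup_left ((Subgroup.mem_normalizer_iff.mp hA a).mp ha)
    · exact Subgroup.mem_sup_right ((Subgroup.mem_normalizer_iff.mp hB b).mp hb)
  refine Subgroup.mem_normalizer_iff.mpr fun x => ⟨key g hA hB x, fun hx => ?_⟩
  have := key g⁻¹ (inv_mem hA) (inv_mem hB) _ hx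
  simpa [mul_assoc] using this

namespace LCtx

variable (c : LCtx F Z θ E D p)
include c

theorem th_eq_of_map {P : Subgroup Ω} {φ : P →* Ω} (hφ : φ ∈ F.Hom P) (x y : P)
    (h : th θ (φ x) = th θ (φ y)) : th θ (x : Ω) = th θ (y : Ω) := by
  obtain ⟨φ', hφ', hi⟩ := c.exists_ind hφ
  rw [← hi x (th_mem_img (dom_le hφ) x.2), ← hi y (th_mem_img (dom_le hφ) y.2)] at h
  exact congrArg Subtype.val (E.injective_of_mem hφ' h)

/-- Two generated maps with the same induced map differ by an inner automorphism. -/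
theorem inner_of_same {n : ℕ} (huniq : UniqAbove F θ Z D p n) {Y : Subgroup Ω} (hY : Ok θ Z D Y)
    (hn : n < Nat.card Y) {m ψ : Y →* Ω} (hm : Gen0 F θ Z D p Y m) (hψ : Gen0 F θ Z D p Y ψ)
    (he : ∀ x : Y, th θ (m x) = th θ (ψ x)) :
    ∃ u : Y, ∀ x : Y, ψ x = m (u * x * u⁻¹) := by
  haveI := finite_of_le hY.leS
  have hmF := c.gen_mem hm
  have hψF := c.gen_mem hψ
  obtain ⟨m', hm', hi⟩ := c.exists_ind hmF
  obtain ⟨ψ', hψ', hj⟩ := c.exists_ind hψF
  have heq : m' = ψ' := c.ind_congr hY.leS hi hj he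
  have hr : ∀ x, ψ x ∈ m.range := fun x => by
    rw [c.range_eq_pre hY.zle hmF hi, heq, ← c.range_eq_pre hY.zle hψF hj]
    exact ⟨x, rfl⟩
  obtain ⟨χ, hχ, hχx⟩ := c.gen_exists_inv hm
  have hcomp : Gen0 F θ Z D p Y (χ.comp (ψ.codRestrict m.range hr)) := Gen0.comp hψ hχ hr
  have hval : ∀ x, (χ.comp (ψ.codRestrict m.range hr)) x ∈ Y := fun x => by
    obtain ⟨w, hw⟩ := hr x
    rw [show (χ.comp (ψ.codRestrict m.range hr)) x = χ ⟨m w, ⟨w, rfl⟩⟩ from
      congrArg χ (Subtype.ext hw.symm), hχx]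
    exact w.2
  obtain ⟨α, hα, hαx⟩ := exists_aut_of_hom' F (c.gen_mem hcomp) hval
  have hαm : ∀ x : Y, m (α x) = ψ x := fun x => by
    obtain ⟨w, hw⟩ := hr x
    have h1 : ((α x : Y) : Ω) = w := by
      rw [hαx, show (χ.comp (ψ.codRestrict m.range hr)) x = χ ⟨m w, ⟨w, rfl⟩⟩ from
        congrArg χ (Subtype.ext hw.symm), hχx]
    rw [show α x = w from Subtype.ext h1, hw]
  have hαG := huniq Y hY hn α (hcomp.congr fun x => hαx x)
  have hαK : α ∈ kerA F θ Y := ⟨hα, fun x => c.th_eq_of_map hmF (α x) x (by rw [hαm, he])⟩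
  obtain ⟨u, hu, hux⟩ := c.genA_inner hY hαG hαK
  refine ⟨⟨u, hu⟩, fun x => ?_⟩
  rw [← hαm x]
  exact congrArg m (Subtype.ext (hux x))

/-- The preimage of a join. -/
theorem pre_sup_le {A B : Subgroup Γ} (hA : A ≤ S') (hB : B ≤ S') :
    preimageAlong θ (A ⊔ B) ≤ preimageAlong θ A ⊔ preimageAlong θ B := by
  have h : A ⊔ B ≤ imageAlong θ (preimageAlong θ A ⊔ preimageAlong θ B) :=
    sup_le ((c.img_pre hA).ge.trans (Subgroup.map_mono fun _ hx => Subgroup.mem_sup_left hx))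
      ((c.img_pre hB).ge.trans (Subgroup.map_mono fun _ hx => Subgroup.mem_sup_right hx))
  refine (pre_mono h).trans (c.pre_img (sup_le (preimageAlong_le θ A) (preimageAlong_le θ B)) ?_).le
  exact (c.z_le_pre A).trans le_sup_left

theorem exists_step_aux {P₀ : Subgroup Ω} (h₀ : Ok θ Z D P₀) {N : FusionSystem
      (normalizerIn T' (imageAlong θ P₀))}
    (hNs : N.IsSaturated p) (hN : D.IsNormalizerSystem (imageAlong θ P₀) N)
    {A : Subgroup Γ} {η : A →* Γ} (hη : η ∈ N.Hom A) :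
    ∃ (m : ↥(preimageAlong θ (A ⊔ imageAlong θ P₀)) →* Ω) (a : MulAut P₀),
      Gen0 F θ Z D p _ m ∧ a ∈ genA F θ D p P₀ ∧
      (∀ (x : P₀) (h : (x : Ω) ∈ preimageAlong θ (A ⊔ imageAlong θ P₀)),
        m ⟨x, h⟩ = ((a x : P₀) : Ω)) ∧
      ∀ (x : ↥(preimageAlong θ (A ⊔ imageAlong θ P₀))) (h : th θ (x : Ω) ∈ A),
        th θ (m x) = η ⟨th θ x, h⟩ := by
  haveI := c.finS
  haveI := finite_of_le c.tle
  have hUT : (imageAlong θ P₀) ≤ T' := c.img_le_T h₀.leT
  have hUS : (imageAlong θ P₀) ≤ S' := hUT.trans c.tle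
  have hNT : normalizerIn T' (imageAlong θ P₀) ≤ T' := normalizerIn_le T' (imageAlong θ P₀)
  haveI := finite_of_le hNT
  have hpre : preimageAlong θ (imageAlong θ P₀) = P₀ := c.pre_img h₀.leS h₀.zle
  have hsupT : ∀ {A : Subgroup Γ}, A ≤ normalizerIn T' (imageAlong θ P₀) → A ⊔ (imageAlong θ P₀) ≤ T' := fun hA =>
    sup_le (hA.trans hNT) hUT
  have hP₀le : ∀ (A : Subgroup Γ), P₀ ≤ preimageAlong θ (A ⊔ (imageAlong θ P₀)) := fun A =>
    hpre.ge.trans (pre_mono le_sup_right)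
  have hNp : IsPGroup p (normalizerIn T' (imageAlong θ P₀)) := isPGroup_of_le c.isP' (hNT.trans c.tle)
  refine closed_induction_centric (Good := fun A η => ∃ (m : ↥(preimageAlong θ (A ⊔ (imageAlong θ P₀))) →* Ω)
      (a : MulAut P₀), Gen0 F θ Z D p _ m ∧ a ∈ genA F θ D p P₀ ∧
      (∀ (x : P₀) (h : (x : Ω) ∈ preimageAlong θ (A ⊔ (imageAlong θ P₀))), m ⟨x, h⟩ = ((a x : P₀) : Ω)) ∧
      ∀ (x : ↥(preimageAlong θ (A ⊔ (imageAlong θ P₀)))) (h : th θ (x : Ω) ∈ A),
        th θ (m x) = η ⟨th θ x, h⟩) hNp hNs ⟨?_, ?_, ?_⟩ ?_ hη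
  · rintro A B η hB - ⟨m, a, hm, ha, hax, hmη⟩
    have hle : preimageAlong θ (B ⊔ (imageAlong θ P₀)) ≤ preimageAlong θ (A ⊔ (imageAlong θ P₀)) := pre_mono (sup_le_sup_right hB (imageAlong θ P₀))
    exact ⟨m.comp (Subgroup.inclusion hle), a, c.gen_restrict hm hle fun _ => rfl, ha,
      fun x h => hax x (hle h), fun x h => hmη (Subgroup.inclusion hle x) (hB h)⟩
  · rintro A B η ζ hη hζ h ⟨m, a, hm, ha, hax, hmη⟩ ⟨k, b, hk, hb, hbx, hkζ⟩
    have hA : A ≤ S' := (dom_le hη).trans (hNT.trans c.tle)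
    have hval : ∀ x, m x ∈ preimageAlong θ (B ⊔ (imageAlong θ P₀)) := by
      have hle : preimageAlong θ (A ⊔ (imageAlong θ P₀)) ≤
          ((preimageAlong θ (B ⊔ (imageAlong θ P₀))).comap m).map (preimageAlong θ (A ⊔ (imageAlong θ P₀))).subtype := by
        refine (c.pre_sup_le hA hUS).trans (sup_le (fun x hx => ?_) fun x hx => ?_)
        · have hx' : x ∈ preimageAlong θ (A ⊔ (imageAlong θ P₀)) := pre_mono le_sup_left hx
          refine ⟨⟨x, hx'⟩, mem_pre.mpr ⟨apply_mem (c.gen_mem hm) _, ?_⟩, rfl⟩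
          rw [hmη ⟨x, hx'⟩ (mem_pre.mp hx).2]
          exact Subgroup.mem_sup_left (h _)
        · have hx' : x ∈ preimageAlong θ (A ⊔ (imageAlong θ P₀)) := pre_mono le_sup_right hx
          refine ⟨⟨x, hx'⟩, ?_, rfl⟩
          show m ⟨x, hx'⟩ ∈ preimageAlong θ (B ⊔ imageAlong θ P₀)
          rw [hax ⟨x, (hpre.le hx : x ∈ P₀)⟩ hx']
          exact hP₀le B (a _).2
      intro x
      obtain ⟨w, hw, e⟩ := hle x.2
      rw [← show w = x from Subtype.ext e]
      exact hw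
    refine ⟨_, b * a, Gen0.comp hm hk hval, mul_mem hb ha, fun x hx => ?_, fun x hx => ?_⟩
    · show k ⟨m ⟨x, hx⟩, hval _⟩ = ((b (a x) : P₀) : Ω)
      rw [← hbx (a x) (hP₀le B (a x).2)]
      exact congrArg k (Subtype.ext (hax x hx))
    · show th θ (k ⟨m x, hval x⟩) = ζ ⟨η ⟨th θ x, hx⟩, h _⟩
      rw [hkζ ⟨m x, hval x⟩ (show th θ (m x) ∈ B from hmη x hx ▸ h _)]
      exact congrArg ζ (Subtype.ext (hmη x hx))
  · rintro A B η ζ hη - hr hζ ⟨m, a, hm, ha, hax, hmη⟩
    have hA : A ≤ S' := (dom_le hη).trans (hNT.trans c.tle)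
    have hB : B ≤ S' := hr ▸ (range_le hη).trans (hNT.trans c.tle)
    have hmF := c.gen_mem hm
    have hP₀r : P₀ ≤ m.range := fun y hy => by
      obtain ⟨x, hx⟩ := a.surjective ⟨y, hy⟩
      exact ⟨⟨x, hP₀le A x.2⟩, (hax x _).trans (congrArg Subtype.val hx)⟩
    have hmr : preimageAlong θ (B ⊔ (imageAlong θ P₀)) ≤ m.range := by
      refine (c.pre_sup_le hB hUS).trans (sup_le (fun y hy => ?_) (hpre.le.trans hP₀r))
      obtain ⟨hyS, hyB⟩ := mem_pre.mp hy
      obtain ⟨⟨z, hz⟩, hzy⟩ := hr.ge hyB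
      obtain ⟨x, hxS, rfl⟩ := c.exists_th (hA hz)
      have hxW : x ∈ preimageAlong θ (A ⊔ (imageAlong θ P₀)) := mem_pre.mpr ⟨hxS, Subgroup.mem_sup_left hz⟩
      have h1 : th θ (m ⟨x, hxW⟩) = th θ y := by rw [hmη ⟨x, hxW⟩ hz]; exact hzy
      have h2 := hP₀r (h₀.zle ((c.th_eq_th (apply_mem hmF _) hyS).mp h1))
      have := m.range.mul_mem (⟨_, rfl⟩ : m ⟨x, hxW⟩ ∈ m.range) h2
      rwa [mul_inv_cancel_left] at this
    obtain ⟨χ, hχ, hχx⟩ := c.gen_exists_inv hm
    refine ⟨χ.comp (Subgroup.inclusion hmr), a⁻¹, c.gen_restrict hχ hmr fun _ => rfl, inv_mem ha,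
      fun y hy => ?_, fun y hy => ?_⟩
    · have h1 := hax (a⁻¹ y) (hP₀le A (a⁻¹ y).2)
      rw [MulAut.apply_inv_self] at h1
      refine Eq.trans ?_ (hχx ⟨((a⁻¹ y : P₀) : Ω), hP₀le A (a⁻¹ y).2⟩)
      exact congrArg χ (Subtype.ext h1.symm)
    · obtain ⟨⟨z, hz⟩, hzy⟩ := hr.ge hy
      obtain ⟨x, hx⟩ := hmr y.2
      have h1 : (χ.comp (Subgroup.inclusion hmr)) y = (x : Ω) := by
        rw [← hχx x]
        exact congrArg χ (Subtype.ext hx.symm)
      rw [h1]
      obtain ⟨w, hwS, rfl⟩ := c.exists_th (hA hz)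
      have hwW : w ∈ preimageAlong θ (A ⊔ (imageAlong θ P₀)) := mem_pre.mpr ⟨hwS, Subgroup.mem_sup_left hz⟩
      have h2 : th θ (x : Ω) = th θ w := c.th_eq_of_map hmF x ⟨w, hwW⟩ (by
        rw [hmη ⟨w, hwW⟩ hz, hx]
        exact hzy.symm)
      rw [h2]
      refine (hζ ⟨th θ w, hz⟩ (hzy ▸ hy)).symm.trans ?_
      exact congrArg ζ (Subtype.ext hzy)
  · intro A hA hAc _ α hα
    have hANT := hA.1
    have hAU : A ⊔ (imageAlong θ P₀) ≤ T' := hsupT hANT
    have hAUc : Ok θ Z D (preimageAlong θ (A ⊔ (imageAlong θ P₀))) :=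
      c.ok_of_le h₀ (hP₀le A) (pre_mono hAU)
    haveI := finite_autGroup N hA.1
    haveI := finite_of_le hAU
    haveI := finite_mulAut (P := A ⊔ (imageAlong θ P₀))
    haveI := finite_of_le hAUc.leS
    haveI := finite_of_le h₀.leS
    obtain ⟨-, R, hR⟩ := (centralized_automized_of_fullyNormalized hNp hNs hA).2
    let H : Subgroup (N.autGroup A) :=
      { carrier := {b | ∃ (β : MulAut (preimageAlong θ (A ⊔ (imageAlong θ P₀)))) (a : MulAut P₀),
          Gen0 F θ Z D p _ ((preimageAlong θ (A ⊔ (imageAlong θ P₀))).subtype.comp β.toMonoidHom) ∧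
          a ∈ genA F θ D p P₀ ∧
          (∀ (x : P₀) (h : (x : Ω) ∈ preimageAlong θ (A ⊔ (imageAlong θ P₀))),
            ((β ⟨x, h⟩ : _) : Ω) = ((a x : P₀) : Ω)) ∧
          ∀ (x : ↥(preimageAlong θ (A ⊔ (imageAlong θ P₀)))) (h : th θ (x : Ω) ∈ A),
            th θ ((β x : _) : Ω) = (((b : MulAut A) ⟨th θ x, h⟩ : A) : Γ)}
        one_mem' := ⟨1, 1, (Gen0.incl (pre_mono hAU)).congr fun _ => rfl, one_mem _,
          fun _ _ => rfl, fun _ _ => rfl⟩
        mul_mem' := by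
          rintro b d ⟨β, a, hβ, ha, hax, hbx⟩ ⟨γ, e, hγ, he, hex, hdx⟩
          refine ⟨β * γ, a * e, Gen0.comp_apply hγ hβ (fun x => (γ x).2) fun x => rfl,
            mul_mem ha he, fun x h => ?_, fun x h => ?_⟩
          · show ((β (γ ⟨x, h⟩) : _) : Ω) = ((a (e x) : P₀) : Ω)
            refine Eq.trans ?_ (hax (e x) (hP₀le A (e x).2))
            exact congrArg (fun v => ((β v : _) : Ω)) (Subtype.ext (hex x h))
          · show th θ ((β (γ x) : _) : Ω) = (((b : MulAut A) ((d : MulAut A) ⟨th θ x, h⟩) : A) : Γ)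
            have h1 := hdx x h
            rw [hbx (γ x) (h1 ▸ Subtype.mem _)]
            exact congrArg (fun v => (((b : MulAut A) v : A) : Γ)) (Subtype.ext h1)
        inv_mem' := by
          rintro b ⟨β, a, hβ, ha, hax, hbx⟩
          refine ⟨β⁻¹, a⁻¹, c.gen_inv hβ (range_subtype_comp_aut β) fun x h => ?_, inv_mem ha,
            fun x h => ?_, fun x h => ?_⟩
          · show (((β⁻¹ : MulAut _) (β x) : preimageAlong θ (A ⊔ (imageAlong θ P₀))) : Ω) = x
            rw [MulAut.inv_apply_self]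
          · have h1 := hax (a⁻¹ x) (hP₀le A (a⁻¹ x).2)
            rw [MulAut.apply_inv_self] at h1
            have h2 : β ⟨((a⁻¹ x : P₀) : Ω), hP₀le A (a⁻¹ x).2⟩ = ⟨x, h⟩ := Subtype.ext h1
            rw [← h2, MulAut.inv_apply_self]
          · obtain ⟨w, hwS, hw⟩ := c.exists_th
              ((hANT.trans (hNT.trans c.tle)) (((b : MulAut A)⁻¹ ⟨th θ x, h⟩)).2)
            have hwA : th θ w ∈ A := hw ▸ Subtype.mem _
            have hwW : w ∈ preimageAlong θ (A ⊔ (imageAlong θ P₀)) :=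
              mem_pre.mpr ⟨hwS, Subgroup.mem_sup_left hwA⟩
            have e1 : (b : MulAut A)⁻¹ ⟨th θ x, h⟩ = ⟨th θ w, hwA⟩ := Subtype.ext hw.symm
            have h1 := hbx ⟨w, hwW⟩ hwA
            rw [← e1, MulAut.apply_inv_self] at h1
            have hβF := (c.gen_mem hβ)
            have h2 : th θ ((β⁻¹ x : _) : Ω) = th θ w :=
              c.th_eq_of_map hβF (β⁻¹ x) ⟨w, hwW⟩ (by
                show th θ ((β (β⁻¹ x) : _) : Ω) = th θ ((β ⟨w, hwW⟩ : _) : Ω)
                rw [MulAut.apply_inv_self, h1])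
            show th θ ((β⁻¹ x : _) : Ω) = (((b : MulAut A)⁻¹ ⟨th θ x, h⟩ : A) : Γ)
            rw [h2, e1] }
    suffices h : (⟨α, hα⟩ : N.autGroup A) ∈ H by
      obtain ⟨β, a, hβ, ha, hax, hbx⟩ := h
      exact ⟨_, a, hβ, ha, hax, hbx⟩
    have htop : (R : Subgroup (N.autGroup A)) ⊔ pResidual p (N.autGroup A) ≤ H := by
      refine sup_le ?_ ((Subgroup.closure_le _).mpr ?_)
      · intro b hb
        rw [hR] at hb
        obtain ⟨y, hy, hyx⟩ := mem_autInducedBy_iff.mp (Subgroup.mem_subgroupOf.mp hb)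
        obtain ⟨t, htS, rfl⟩ := c.exists_th (c.tle hy.1)
        have hnA : th θ t ∈ Subgroup.normalizer (A : Set Γ) := normalizer_of_induced hyx
        have htT : t ∈ preimageAlong θ T' := mem_pre.mpr ⟨htS, hy.1⟩
        have hn : ∀ {V : Subgroup Γ}, V ≤ S' → th θ t ∈ normalizerIn S' V →
            t ∈ Subgroup.normalizer (preimageAlong θ V : Set Ω) := fun hV hv =>
          ((CfsgLib.FusionModels.mem_normalizerIn_preimage c.fac.2.2.1 hV ⟨t, htS⟩).mpr
            (by rw [← th_eq θ htS]; exact hv)).2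
        have hnU : t ∈ Subgroup.normalizer (P₀ : Set Ω) := by
          have := hn hUS ⟨c.th_mem htS, hy.2⟩
          rwa [hpre] at this
        have hnW : t ∈ Subgroup.normalizer (preimageAlong θ (A ⊔ (imageAlong θ P₀)) : Set Ω) :=
          hn (hAU.trans c.tle) ⟨c.th_mem htS, mem_normalizer_sup hnA hy.2⟩
        refine ⟨conjAut _ t hnW, conjAut P₀ t hnU,
          (Gen0.conj (pre_mono hAU) t htT).congr fun _ => rfl,
          Subgroup.subset_closure (Or.inr (tConj_conjAut (preimageAlong_le θ T') h₀.leT htT hnU)),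
          fun _ _ => rfl, fun x h => ?_⟩
        refine Eq.trans ?_ (hyx ⟨th θ x, h⟩).symm
        exact th_conj θ htS (preimageAlong_le θ _ x.2)
      · intro b hb
        have hb' : (orderOf (b : MulAut A)).Coprime p := by rwa [Subgroup.orderOf_coe]
        have hbH := (mem_autGroup_iff N hA.1).mp b.2
        rw [hN A] at hbH
        obtain ⟨-, -, -, ψ, hψ, hψx, hψU⟩ := hbH
        have hψm : ∀ w, ψ w ∈ A ⊔ (imageAlong θ P₀) := by
          have hle : A ⊔ (imageAlong θ P₀) ≤ ((A ⊔ (imageAlong θ P₀)).comap ψ).map (A ⊔ (imageAlong θ P₀)).subtype := sup_le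
            (fun x hx => ⟨⟨x, Subgroup.mem_sup_left hx⟩, by
              show ψ _ ∈ A ⊔ (imageAlong θ P₀)
              rw [show ψ ⟨x, Subgroup.mem_sup_left hx⟩ = _ from hψx ⟨x, hx⟩]
              exact Subgroup.mem_sup_left ((b : MulAut A) ⟨x, hx⟩).2, rfl⟩)
            fun x hx => ⟨⟨x, Subgroup.mem_sup_right hx⟩,
              Subgroup.mem_sup_right (T := imageAlong θ P₀) (hψU.le ⟨_, hx, rfl⟩), rfl⟩
          intro w
          obtain ⟨z, hz, e⟩ := hle w.2
          rw [← show z = w from Subtype.ext e]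
          exact hz
        obtain ⟨e, he, hex⟩ := exists_aut_of_hom' D hψ hψm
        have hpow : ∀ n : ℕ, (∀ (x : A) (h : (x : Γ) ∈ A ⊔ (imageAlong θ P₀)),
            (((e ^ n) ⟨x, h⟩ : _) : Γ) = ((((b : MulAut A) ^ n) x : A) : Γ)) ∧
            ∀ (x : (imageAlong θ P₀)) (h : (x : Γ) ∈ A ⊔ (imageAlong θ P₀)), (((e ^ n) ⟨x, h⟩ : _) : Γ) ∈ (imageAlong θ P₀) := by
          intro n
          induction n with
          | zero => exact ⟨fun _ _ => rfl, fun x _ => x.2⟩
          | succ n ih =>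
            refine ⟨fun x h => ?_, fun x h => ?_⟩
            · rw [pow_succ', MulAut.mul_apply,
                show (e ^ n) ⟨x, h⟩ = ⟨((((b : MulAut A) ^ n) x : A) : Γ),
                  Subgroup.mem_sup_left (Subtype.mem _)⟩ from Subtype.ext (ih.1 x h)]
              rw [hex, pow_succ', MulAut.mul_apply]
              exact hψx _
            · rw [pow_succ', MulAut.mul_apply, hex]
              exact hψU.le ⟨_, ih.2 x h, rfl⟩
        obtain ⟨k, hk⟩ := exists_pow_coprime (p := p) e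
        haveI := finite_of_le (hANT.trans hNT)
        haveI := finite_mulAut (P := A)
        obtain ⟨j, hj⟩ := exists_pow_eq_self_of_coprime (x := (b : MulAut A)) (n := p ^ k)
          (hb'.symm.pow_left k)
        set e₁ := (e ^ p ^ k) ^ j with he₁
        have hWS : A ⊔ (imageAlong θ P₀) ≤ S' := hAU.trans c.tle
        obtain ⟨β, hβ, hi⟩ := c.exists_pLift' (pre_mono hAU) (c.z_le_pre (A ⊔ (imageAlong θ P₀)))
          (c.img_pre hWS) (pow_mem (pow_mem he _) _) (hk.coprime_dvd_left (orderOf_pow_dvd j))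
        have hβU : ∀ x : P₀, ((β ⟨x, hP₀le A x.2⟩ : _) : Ω) ∈ P₀ := fun x => by
          refine hpre.le (mem_pre.mpr ⟨hAUc.leS (β _).2, ?_⟩)
          have hxU : th θ (x : Ω) ∈ A ⊔ (imageAlong θ P₀) := Subgroup.mem_sup_right (th_mem_img h₀.leS x.2)
          have hival := hi ⟨x, hP₀le A x.2⟩ hxU
          have h2 := (hpow (p ^ k * j)).2 ⟨th θ x, th_mem_img h₀.leS x.2⟩ hxU
          rw [pow_mul] at h2
          rw [show th θ ((β ⟨x, hP₀le A x.2⟩ : _) : Ω) = _ from hival.symm]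
          exact h2
        obtain ⟨a, ha, hax⟩ := exists_aut_of_hom' F (φ := ((preimageAlong θ (A ⊔ (imageAlong θ P₀))).subtype.comp
          β.toMonoidHom).comp (Subgroup.inclusion (hP₀le A)))
          (restrict_mem ((mem_autGroup_iff F hAUc.leS).mp hβ.1) (hP₀le A)) hβU
        have hapow : ∀ (n : ℕ) (x : P₀),
            (((a ^ n) x : P₀) : Ω) = (((β ^ n) ⟨x, hP₀le A x.2⟩ : _) : Ω) := by
          intro n
          induction n with
          | zero => intro x; rfl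
          | succ n ih =>
            intro x
            rw [pow_succ', MulAut.mul_apply, hax, pow_succ', MulAut.mul_apply]
            exact congrArg (fun v => ((β v : _) : Ω)) (Subtype.ext (ih x))
        have haco : (orderOf a).Coprime p := hβ.2.1.coprime_dvd_left
          (orderOf_dvd_of_pow_eq_one (MulEquiv.ext fun x => Subtype.ext (by
            rw [hapow, pow_orderOf_eq_one]; rfl)))
        have haL : PLift F θ D p P₀ a :=
          ⟨ha, haco, c.indD_restrict hβ.2.2 (hP₀le A) fun x => hax x⟩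
        refine ⟨β, a, (Gen0.base hAUc le_rfl β hβ).congr fun _ => rfl,
          Subgroup.subset_closure (Or.inl haL), fun x h => (hax x).symm, fun x h => ?_⟩
        rw [← show _ = th θ ((β x : _) : Ω) from hi x (Subgroup.mem_sup_left h)]
        show (((e₁ ⟨th θ x, _⟩ : _) : Γ)) = _
        rw [he₁, ← pow_mul]
        refine ((hpow (p ^ k * j)).1 ⟨th θ x, h⟩ _).trans ?_
        rw [pow_mul, hj]
    rw [CfsgLib.FusionSub.sylow_sup_pResidual] at htop
    exact htop (Subgroup.mem_top _)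

/-- A generated map on a subgroup larger than `P₀` restricts to a generated automorphism. -/
theorem step {n : ℕ} (huniq : UniqAbove F θ Z D p n) {P₀ : Subgroup Ω} (h₀ : Ok θ Z D P₀)
    (hfull : D.IsFullyNormalized (imageAlong θ P₀)) {Y : Subgroup Ω} (hPY : P₀ ≤ Y)
    (hY : Y ≤ normalizerIn (preimageAlong θ T') P₀) (hn : n < Nat.card Y) {ψ : Y →* Ω}
    (hψ : Gen0 F θ Z D p Y ψ) (hfix : ∀ x : P₀, ψ ⟨x, hPY x.2⟩ ∈ P₀) :
    ∃ a ∈ genA F θ D p P₀, ∀ x : P₀, ((a x : P₀) : Ω) = ψ ⟨x, hPY x.2⟩ := by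
  haveI := c.finS
  haveI := finite_of_le c.tle
  haveI := finite_of_le h₀.leS
  set U := imageAlong θ P₀ with hUdef
  have hpre : preimageAlong θ U = P₀ := c.pre_img h₀.leS h₀.zle
  have hYT : Y ≤ preimageAlong θ T' := hY.trans (normalizerIn_le _ _)
  have hYS : Y ≤ S := hYT.trans (preimageAlong_le θ T')
  have hYok : Ok θ Z D Y := c.ok_of_le h₀ hPY hYT
  have hUS : U ≤ S' := c.img_le P₀
  obtain ⟨N, hN⟩ := exists_normalizerSystem D (c.img_le_T h₀.leT)
  have hNs := Cfsg.Agent.S5098.result p (isPGroup_of_le c.isP' c.tle) D c.dsat U hfull N hN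
  obtain ⟨hψF, ψ', hψ', hi⟩ := c.gen_indD hψ
  have hnorm : ∀ {w : Ω}, w ∈ S → w ∈ Subgroup.normalizer (P₀ : Set Ω) →
      th θ w ∈ normalizerIn S' U := fun {w} hw hwn => by
    rw [th_eq θ hw]
    exact (CfsgLib.FusionModels.mem_normalizerIn_preimage c.fac.2.2.1 hUS ⟨w, hw⟩).mp
      (by rw [hpre]; exact ⟨hw, hwn⟩)
  have hUY : U ≤ imageAlong θ Y := Subgroup.map_mono fun _ hx => hPY hx
  have hmap : (P₀.subgroupOf Y).map ψ = P₀ := by
    haveI := finite_of_le hYS
    refine Subgroup.eq_of_le_of_card_ge (by rintro _ ⟨x, hx, rfl⟩; exact hfix ⟨x, hx⟩) ?_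
    rw [Subgroup.card_map_of_injective (F.injective_of_mem hψF),
      Nat.card_congr (Subgroup.subgroupOfEquivOfLe hPY).toEquiv]
  have hYN : imageAlong θ Y ≤ normalizerIn T' U := by
    intro y hy
    obtain ⟨x, rfl⟩ := (mem_img hYS).mp hy
    exact ⟨(mem_pre.mp (hYT x.2)).2, (hnorm (hYS x.2) (hY x.2).2).2⟩
  have hψN : ψ' ∈ N.Hom (imageAlong θ Y) := by
    rw [hN]
    refine ⟨hψ', hYN, fun y => ⟨apply_mem hψ' y, ?_⟩, ψ'.comp (Subgroup.inclusion
      (sup_le le_rfl hUY)), restrict_mem hψ' _, fun y => congrArg ψ' (Subtype.ext rfl), ?_⟩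
    · obtain ⟨y, hy⟩ := y
      obtain ⟨x, rfl⟩ := (mem_img hYS).mp hy
      rw [hi x hy]
      exact (hnorm (apply_mem hψF x) (apply_mem_normalizerIn hψF hPY hmap x (hY x.2).2).2).2
    · refine le_antisymm ?_ ?_
      · rintro _ ⟨⟨y, hy⟩, hyU, rfl⟩
        obtain ⟨x, rfl⟩ := (mem_img h₀.leS).mp hyU
        show ψ' ⟨th θ x, _⟩ ∈ U
        rw [hi ⟨x, hPY x.2⟩ (hUY hyU)]
        exact th_mem_img h₀.leS (hfix x)
      · intro z hz
        obtain ⟨x, rfl⟩ := (mem_img h₀.leS).mp hz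
        obtain ⟨w, hw, hwx⟩ := hmap.ge x.2
        have hwU : th θ (w : Ω) ∈ U := th_mem_img h₀.leS hw
        exact ⟨⟨th θ w, Subgroup.mem_sup_right hwU⟩, hwU,
          (hi w (hUY hwU)).trans (congrArg (th θ) hwx)⟩
  obtain ⟨m, a, hm, ha, hax, hmη⟩ := c.exists_step_aux h₀ hNs hN hψN
  have hYW : Y ≤ preimageAlong θ (imageAlong θ Y ⊔ U) :=
    (c.pre_img hYS hYok.zle).ge.trans (pre_mono le_sup_left)
  set mY := m.comp (Subgroup.inclusion hYW) with hmY
  obtain ⟨u, hu⟩ := c.inner_of_same huniq hYok hn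
    (c.gen_restrict hm hYW fun _ => rfl : Gen0 F θ Z D p Y mY) hψ fun x => by
      rw [← hi x (th_mem_img hYS x.2)]
      exact hmη (Subgroup.inclusion hYW x) _
  have hun := (hY u.2).2
  refine ⟨a * conjAut P₀ u hun, mul_mem ha (Subgroup.subset_closure (Or.inr
    (tConj_conjAut (preimageAlong_le θ T') h₀.leT (hYT u.2) hun))), fun x => ?_⟩
  rw [hu]
  show ((a (conjAut P₀ u hun x) : P₀) : Ω) = _
  exact (hax (conjAut P₀ u hun x) (hYW (hPY (conjAut P₀ (u : Ω) hun x).2))).symm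

end LCtx

end CfsgLib.FusionLifting
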