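import Cfsg.Agent.Lib.FusionLifting.Step

/-!
Uniqueness of lifts: the generated automorphisms of a subgroup with centric image form the group
generated by the lifts of order prime to `p` and the transported conjugations.
-/

set_option autoImplicit false
set_option linter.style.haveILetI false
set_option linter.unusedSectionVars false

namespace CfsgLib.FusionLifting

open Cfsg Cfsg.FusionSystem CfsgLib.Alperin CfsgLib.FusionSub CfsgLib.FusionBasics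

universe u v

variable {Ω : Type u} [Group Ω] {Γ : Type v} [Group Γ] {S Z : Subgroup Ω} {S' T' : Subgroup Γ}
  {F : FusionSystem S} {θ : S →* Γ} {E : FusionSystem S'} {D : FusionSystem T'} {p : ℕ}
  [Fact p.Prime] [Finite S]

/-- `ρ` maps `P` onto `P₀` and extends to a generated map on the normalizer in the preimage
of `T'`. -/
def Rho (F : FusionSystem S) (θ : S →* Γ) (Z : Subgroup Ω) (D : FusionSystem T') (p : ℕ)
    (P₀ P : Subgroup Ω) (ρ : P →* Ω) : Prop :=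
  ρ.range = P₀ ∧ ∃ χ : ↥(normalizerIn (preimageAlong θ T') P) →* Ω,
    Gen0 F θ Z D p _ χ ∧
    ∀ (x : P) (h : (x : Ω) ∈ normalizerIn (preimageAlong θ T') P), χ ⟨x, h⟩ = ρ x

/-- `φ` carries the maps `Rho` to one another up to generated automorphisms of `P₀`. -/
def Loop (F : FusionSystem S) (θ : S →* Γ) (Z : Subgroup Ω) (D : FusionSystem T') (p : ℕ)
    (P₀ : Subgroup Ω) (A : Subgroup Ω) (φ : A →* Ω) : Prop :=
  ∀ (P P' : Subgroup Ω) (hPA : P ≤ A), Ok θ Z D P → (φ.comp (Subgroup.inclusion hPA)).range = P' →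
    ∀ (ρ : P →* Ω) (ρ' : P' →* Ω), Rho F θ Z D p P₀ P ρ → Rho F θ Z D p P₀ P' ρ' →
      ∃ a ∈ genA F θ D p P₀, ∀ (x : P) (h₀ : ρ x ∈ P₀) (h' : φ ⟨x, hPA x.2⟩ ∈ P'),
        ((a ⟨ρ x, h₀⟩ : P₀) : Ω) = ρ' ⟨φ ⟨x, hPA x.2⟩, h'⟩

namespace LCtx

variable (c : LCtx F Z θ E D p)
include c

theorem rho_apply_mem {P₀ P : Subgroup Ω} {ρ : P →* Ω} (hρ : Rho F θ Z D p P₀ P ρ) (x : P) :
    ρ x ∈ P₀ := hρ.1.le ⟨x, rfl⟩

theorem rho_card {P₀ P : Subgroup Ω} (hPT : P ≤ preimageAlong θ T') {ρ : P →* Ω}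
    (hρ : Rho F θ Z D p P₀ P ρ) : Nat.card P = Nat.card P₀ := by
  obtain ⟨hr, χ, hχ, hχx⟩ := hρ
  have h : ρ ∈ F.Hom P := restrict_mem_apply (c.gen_mem hχ) (le_normalizerIn hPT)
    fun x => (hχx x _).symm
  rw [← hr, card_range_eq (F.injective_of_mem h)]

theorem rho_gen {P₀ P : Subgroup Ω} (hPT : P ≤ preimageAlong θ T') {ρ : P →* Ω}
    (hρ : Rho F θ Z D p P₀ P ρ) : Gen0 F θ Z D p P ρ := by
  obtain ⟨-, χ, hχ, hχx⟩ := hρ
  exact c.gen_restrict hχ (le_normalizerIn hPT) fun x => (hχx x _).symm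

theorem exists_rho {P₀ : Subgroup Ω} (h₀ : Ok θ Z D P₀)
    (hfull : D.IsFullyNormalized (imageAlong θ P₀)) {P : Subgroup Ω} (hP : Ok θ Z D P)
    (hconj : D.IsConj (imageAlong θ P) (imageAlong θ P₀)) :
    ∃ ρ : P →* Ω, Rho F θ Z D p P₀ P ρ := by
  haveI := c.finS
  haveI := finite_of_le c.tle
  set U := imageAlong θ P with hUdef
  obtain ⟨χ', hχ', hm, hmap⟩ : ∃ χ' ∈ D.Hom (normalizerIn T' U),
      (∀ x, χ' x ∈ normalizerIn T' (imageAlong θ P₀)) ∧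
      (U.subgroupOf (normalizerIn T' U)).map χ' = imageAlong θ P₀ :=
    exists_hom_normalizerIn_of_fullyNormalized (isPGroup_of_le c.isP' c.tle) c.dsat hfull hconj
  obtain ⟨χ, hχ, hi⟩ := c.exists_gen_lift hχ'
  have hUS : U ≤ S' := c.img_le P
  have hle : normalizerIn (preimageAlong θ T') P ≤ preimageAlong θ (normalizerIn T' U) := by
    intro x hx
    have hxS := preimageAlong_le θ T' hx.1
    refine mem_pre.mpr ⟨hxS, (mem_pre.mp hx.1).2, ?_⟩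
    have := (CfsgLib.FusionModels.mem_normalizerIn_preimage c.fac.2.2.1 hUS ⟨x, hxS⟩).mp
      (by rw [c.pre_img hP.leS hP.zle]; exact ⟨hxS, hx.2⟩)
    rw [← th_eq θ hxS] at this
    exact this.2
  have hPN : P ≤ normalizerIn (preimageAlong θ T') P := le_normalizerIn hP.leT
  set χ₁ := χ.comp (Subgroup.inclusion hle) with hχ₁
  set ρ := χ₁.comp (Subgroup.inclusion hPN) with hρ
  have hρG : Gen0 F θ Z D p P ρ := c.gen_restrict hχ (hPN.trans hle) fun _ => rfl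
  have hUN : U ≤ normalizerIn T' U := le_normalizerIn (c.img_le_T hP.leT)
  have hiρ : Ind θ ρ (χ'.comp (Subgroup.inclusion hUN)) :=
    fun x h => hi (Subgroup.inclusion (hPN.trans hle) x) (hUN h)
  refine ⟨ρ, ?_, χ₁, c.gen_restrict hχ hle fun _ => rfl, fun x h => rfl⟩
  rw [c.range_eq_pre hP.zle (c.gen_mem hρG) hiρ, range_comp_inclusion, hmap,
    c.pre_img h₀.leS h₀.zle]

/-- Two maps `Rho` compared along a generated map defined on a larger subgroup. -/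
theorem loop_big {n : ℕ} (huniq : UniqAbove F θ Z D p n) {P₀ : Subgroup Ω} (h₀ : Ok θ Z D P₀)
    (hfull : D.IsFullyNormalized (imageAlong θ P₀)) (hn₀ : n ≤ Nat.card P₀)
    {R P P' : Subgroup Ω} (hPR : P < R) (hP : Ok θ Z D P) {φ : R →* Ω}
    (hφ : Gen0 F θ Z D p R φ)
    (hr : (φ.comp (Subgroup.inclusion hPR.le)).range = P') {ρ : P →* Ω} {ρ' : P' →* Ω}
    (hρ : Rho F θ Z D p P₀ P ρ) (hρ' : Rho F θ Z D p P₀ P' ρ') :
    ∃ a ∈ genA F θ D p P₀, ∀ (x : P) (h₀ : ρ x ∈ P₀) (h' : φ ⟨x, hPR.le x.2⟩ ∈ P'),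
      ((a ⟨ρ x, h₀⟩ : P₀) : Ω) = ρ' ⟨φ ⟨x, hPR.le x.2⟩, h'⟩ := by
  haveI := finite_of_le h₀.leS
  have hRT := c.gen_le hφ
  have hRS : R ≤ S := hRT.trans (preimageAlong_le θ T')
  haveI := finite_of_le hRS
  have hcard := c.rho_card hP.leT hρ
  obtain ⟨hρr, χ, hχ, hχx⟩ := hρ
  obtain ⟨hρ'r, χ', hχ', hχ'x⟩ := hρ'
  have hφF := c.gen_mem hφ
  have hP'T : P' ≤ preimageAlong θ T' := hr ▸ fun y ⟨x, hx⟩ => hx ▸ c.gen_apply_mem hφ _
  set X := R ⊓ Subgroup.normalizer (P : Set Ω) with hXdef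
  have hPX : P ≤ X := le_inf hPR.le Subgroup.le_normalizer
  have hXN : X ≤ (normalizerIn (preimageAlong θ T') P) := inf_le_inf_right _ hRT
  obtain ⟨g, hgR, hgN, hgP⟩ := exists_mem_normalizer_not_mem c.isP hPR hRS
  have hPXlt : P < X := lt_of_le_of_ne hPX fun h => hgP (h.ge ⟨hgR, hgN⟩)
  obtain ⟨χi, hχi, hχix⟩ := c.gen_exists_inv hχ
  set χX := χ.comp (Subgroup.inclusion hXN) with hχXdef
  have hχX : Gen0 F θ Z D p X χX := c.gen_restrict hχ hXN fun _ => rfl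
  set Y := χX.range with hYdef
  have hYle : Y ≤ χ.range := by
    rintro _ ⟨x, rfl⟩
    exact ⟨_, rfl⟩
  have hmapρ : (P.subgroupOf (normalizerIn (preimageAlong θ T') P)).map χ = P₀ := by
    rw [← hρr]
    ext y
    constructor
    · rintro ⟨⟨x, hxN⟩, hxP, rfl⟩
      exact ⟨⟨x, hxP⟩, (hχx ⟨x, hxP⟩ hxN).symm⟩
    · rintro ⟨x, rfl⟩
      exact ⟨⟨x, le_normalizerIn hP.leT x.2⟩, x.2, hχx x _⟩
  have hP₀Y : P₀ ≤ Y := by
    rw [← hρr]
    rintro _ ⟨x, rfl⟩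
    exact ⟨⟨x, hPX x.2⟩, hχx x _⟩
  have hYN : Y ≤ normalizerIn (preimageAlong θ T') P₀ := by
    rintro _ ⟨x, rfl⟩
    exact ⟨c.gen_apply_mem hχX x,
      (apply_mem_normalizerIn (c.gen_mem hχ) (le_normalizerIn hP.leT) hmapρ
        (Subgroup.inclusion hXN x) (hXN x.2).2).2⟩
  -- the image of `X` under `φ` normalizes `P'`
  set φX := φ.comp (Subgroup.inclusion (inf_le_left : X ≤ R)) with hφX
  have hφXG : Gen0 F θ Z D p X φX := c.gen_restrict hφ inf_le_left fun _ => rfl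
  have hmapφ : (P.subgroupOf X).map φX = P' := by
    rw [← hr]
    ext y
    constructor
    · rintro ⟨⟨x, hxX⟩, hxP, rfl⟩
      exact ⟨⟨x, hxP⟩, rfl⟩
    · rintro ⟨x, rfl⟩
      exact ⟨⟨x, hPX x.2⟩, x.2, rfl⟩
  have hm2 : ∀ x : X, φX x ∈ normalizerIn (preimageAlong θ T') P' := fun x =>
    ⟨c.gen_apply_mem hφXG x,
      (apply_mem_normalizerIn (c.gen_mem hφXG) hPX hmapφ x x.2.2).2⟩
  set η := χi.comp (Subgroup.inclusion hYle) with hηdef
  have hηx : ∀ x : X, η ⟨χX x, x, rfl⟩ = (x : Ω) := fun x => hχix (Subgroup.inclusion hXN x)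
  have hm1 : ∀ y : Y, η y ∈ X := by
    rintro ⟨_, x, rfl⟩
    rw [hηx x]
    exact x.2
  have hηG : Gen0 F θ Z D p Y η := c.gen_restrict hχi hYle fun _ => rfl
  set ψ₁ := φX.comp (η.codRestrict X hm1) with hψ₁
  have hm3 : ∀ y, ψ₁ y ∈ normalizerIn (preimageAlong θ T') P' := fun y => hm2 _
  have hψ : Gen0 F θ Z D p Y (χ'.comp (ψ₁.codRestrict _ hm3)) :=
    Gen0.comp (Gen0.comp hηG hφXG hm1) hχ' hm3
  have hval : ∀ (x : P) (h' : φ ⟨x, hPR.le x.2⟩ ∈ P') (hy : ρ x ∈ Y),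
      (χ'.comp (ψ₁.codRestrict _ hm3)) ⟨ρ x, hy⟩ = ρ' ⟨φ ⟨x, hPR.le x.2⟩, h'⟩ := by
    intro x h' hy
    have e : η.codRestrict X hm1 ⟨ρ x, hy⟩ = ⟨x, hPX x.2⟩ := by
      refine Subtype.ext ?_
      refine Eq.trans ?_ (hηx ⟨x, hPX x.2⟩)
      exact congrArg η (Subtype.ext (hχx x _).symm)
    have e2 : ψ₁ ⟨ρ x, hy⟩ = φ ⟨x, hPR.le x.2⟩ := congrArg φX e
    refine Eq.trans ?_ (hχ'x ⟨φ ⟨x, hPR.le x.2⟩, h'⟩ (le_normalizerIn hP'T h'))
    exact congrArg χ' (Subtype.ext e2)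
  have hrP' : ∀ x : P, φ ⟨x, hPR.le x.2⟩ ∈ P' := fun x => hr.le ⟨x, rfl⟩
  have hfix : ∀ y : P₀, (χ'.comp (ψ₁.codRestrict _ hm3)) ⟨y, hP₀Y y.2⟩ ∈ P₀ := by
    intro y
    obtain ⟨x, hx⟩ := hρr.ge y.2
    have e : (⟨y, hP₀Y y.2⟩ : Y) = ⟨ρ x, hP₀Y (hρr.le ⟨x, rfl⟩)⟩ := Subtype.ext hx.symm
    rw [e, hval x (hrP' x)]
    exact hρ'r.le ⟨_, rfl⟩
  have hlt : n < Nat.card Y := by
    rw [card_range_eq (F.injective_of_mem (c.gen_mem hχX))]
    exact lt_of_le_of_lt (hn₀.trans hcard.ge) (card_lt_card (inf_le_left.trans hRS) hPXlt)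
  obtain ⟨a, ha, hax⟩ := c.step huniq h₀ hfull hP₀Y hYN hlt hψ hfix
  exact ⟨a, ha, fun x hx h' => (hax ⟨ρ x, hx⟩).trans (hval x h' _)⟩

theorem isConj_of_gen {P : Subgroup Ω} {φ : P →* Ω} (h : Gen0 F θ Z D p P φ) :
    D.IsConj (imageAlong θ P) (imageAlong θ φ.range) := by
  obtain ⟨hF, φ', hφ', hi⟩ := c.gen_indD h
  exact ⟨φ', hφ', (c.ind_range hF hi).symm⟩

/-- A generated map of a subgroup of order `n` is a loop. -/
theorem loop_gen {n : ℕ} (huniq : UniqAbove F θ Z D p n) {P₀ : Subgroup Ω} (h₀ : Ok θ Z D P₀)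
    (hfull : D.IsFullyNormalized (imageAlong θ P₀)) (hn₀ : Nat.card P₀ = n)
    (hne : P₀ ≠ preimageAlong θ T') {A : Subgroup Ω} {φ : A →* Ω}
    (hφ : Gen0 F θ Z D p A φ) : Loop F θ Z D p P₀ A φ := by
  haveI := finite_of_le (preimageAlong_le θ T')
  have hgrow : ∀ {P : Subgroup Ω}, P ≤ preimageAlong θ T' → Nat.card P = Nat.card P₀ →
      P < normalizerIn (preimageAlong θ T') P := fun {P} hPT hc => by
    refine CfsgLib.FusionSub.lt_normalizerIn (isPGroup_of_le c.isP (preimageAlong_le θ T')) (lt_of_le_of_ne hPT ?_)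
    rintro rfl
    exact hne (Subgroup.eq_of_le_of_card_ge h₀.leT hc.le)
  induction hφ with
  | @base A R hR hAR β hβ =>
    intro P P' hPA hP hr ρ ρ' hρ hρ'
    set ψ := R.subtype.comp β.toMonoidHom with hψ
    have hψG : Gen0 F θ Z D p R ψ := (Gen0.base hR le_rfl β hβ).congr fun _ => rfl
    rcases eq_or_lt_of_le (hPA.trans hAR) with heq | hlt
    · subst heq
      have hP' : P' = P := by
        rw [← hr]
        exact range_subtype_comp_aut β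
      subst hP'
      have hlt' := hgrow hP.leT (c.rho_card hP.leT hρ)
      have hincl : Gen0 F θ Z D p (normalizerIn (preimageAlong θ T') P')
          (normalizerIn (preimageAlong θ T') P').subtype := Gen0.incl (normalizerIn_le _ _)
      obtain ⟨a, ha, hax⟩ := c.loop_big huniq h₀ hfull hn₀.ge hlt' hP hincl
        (by ext y; exact ⟨fun ⟨x, hx⟩ => hx ▸ x.2, fun hy => ⟨⟨y, hy⟩, rfl⟩⟩) hρ hρ'
      have hρF := c.gen_mem (c.rho_gen hP.leT hρ)
      refine ⟨a * MulAut.congr (isoOfHom ρ (F.injective_of_mem hρF) hρ.1) β, mul_mem ha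
        (c.genA_congr hP.leT hρF hρ.1 (Subgroup.subset_closure (Or.inl hβ))), fun x hx h' => ?_⟩
      rw [MulAut.mul_apply]
      have e : MulAut.congr (isoOfHom ρ (F.injective_of_mem hρF) hρ.1) β ⟨ρ x, hx⟩ =
          ⟨ρ (β x), c.rho_apply_mem hρ _⟩ := Subtype.ext (congr_isoOfHom_apply _ _ _ _ _ _)
      rw [e]
      exact (hax (β x) _ (β x).2).trans (congrArg ρ' (Subtype.ext rfl))
    · obtain ⟨a, ha, hax⟩ := c.loop_big huniq h₀ hfull hn₀.ge hlt hP hψG (P' := P')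
        (by rw [← hr]; rfl) hρ hρ'
      exact ⟨a, ha, fun x hx h' => hax x hx h'⟩
  | @conj A hA t ht =>
    intro P P' hPA hP hr ρ ρ' hρ hρ'
    have hlt' := hgrow hP.leT (c.rho_card hP.leT hρ)
    obtain ⟨a, ha, hax⟩ := c.loop_big huniq h₀ hfull hn₀.ge hlt' hP
      (Gen0.conj (normalizerIn_le (preimageAlong θ T') P) t ht) (P' := P')
      (by rw [← hr]; rfl) hρ hρ'
    exact ⟨a, ha, fun x hx h' => hax x hx h'⟩
  | @comp A B φ ψ h₁ h₂ h ih₁ ih₂ =>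
    intro P P'' hPA hP hr ρ ρ'' hρ hρ''
    set P' := (φ.comp (Subgroup.inclusion hPA)).range with hP'def
    have hP'B : P' ≤ B := by
      rintro _ ⟨x, rfl⟩
      exact h _
    have hφP : Gen0 F θ Z D p P (φ.comp (Subgroup.inclusion hPA)) :=
      c.gen_restrict h₁ hPA fun _ => rfl
    have hP'ok : Ok θ Z D P' := c.ok_map hP (c.gen_mem hφP)
    have hconj : D.IsConj (imageAlong θ P') (imageAlong θ P₀) := by
      have e2 := c.isConj_of_gen (c.rho_gen hP.leT hρ)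
      rw [hρ.1] at e2
      exact CfsgLib.Alperin.IsConj.trans (CfsgLib.Alperin.IsConj.symm (c.isConj_of_gen hφP)) e2
    obtain ⟨ρ', hρ'⟩ := c.exists_rho h₀ hfull hP'ok hconj
    obtain ⟨a, ha, hax⟩ := ih₁ P P' hPA hP rfl ρ ρ' hρ hρ'
    obtain ⟨b, hb, hbx⟩ := ih₂ P' P'' hP'B hP'ok (by
      rw [← hr]
      refine le_antisymm ?_ ?_
      · rintro _ ⟨⟨_, x, rfl⟩, rfl⟩
        exact ⟨x, rfl⟩
      · rintro _ ⟨x, rfl⟩
        exact ⟨⟨_, x, rfl⟩, rfl⟩) ρ' ρ'' hρ' hρ''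
    refine ⟨b * a, mul_mem hb ha, fun x hx h' => ?_⟩
    have hx' : φ ⟨x, hPA x.2⟩ ∈ P' := ⟨x, rfl⟩
    rw [MulAut.mul_apply,
      show a ⟨ρ x, hx⟩ = ⟨ρ' ⟨φ ⟨x, hPA x.2⟩, hx'⟩, c.rho_apply_mem hρ' _⟩ from
        Subtype.ext (hax x hx hx')]
    exact hbx ⟨φ ⟨x, hPA x.2⟩, hx'⟩ (c.rho_apply_mem hρ' _) h'

theorem gen_top {A : Subgroup Ω} {φ : A →* Ω} (hφ : Gen0 F θ Z D p A φ) :
    A = preimageAlong θ T' → ∃ a ∈ genA F θ D p (preimageAlong θ T'),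
      ∀ (x : A) (h : (x : Ω) ∈ preimageAlong θ T'), ((a ⟨x, h⟩ : _) : Ω) = φ x := by
  induction hφ with
  | @base A R hR hAR β hβ =>
    intro hA
    obtain rfl : R = preimageAlong θ T' := le_antisymm hR.leT (hA.ge.trans hAR)
    exact ⟨β, Subgroup.subset_closure (Or.inl hβ), fun x h => rfl⟩
  | @conj A hA t ht =>
    intro _
    exact ⟨conjAut _ t (Subgroup.le_normalizer ht), Subgroup.subset_closure (Or.inr
      (tConj_conjAut (preimageAlong_le θ T') le_rfl ht _)), fun _ _ => rfl⟩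
  | @comp A B φ ψ h₁ h₂ h ih₁ ih₂ =>
    intro hA
    obtain ⟨a, ha, hax⟩ := ih₁ hA
    have hB : B = preimageAlong θ T' := le_antisymm (c.gen_le h₂) fun y hy => by
      obtain ⟨w, hw⟩ := a.surjective ⟨y, hy⟩
      have := hax ⟨w, hA.ge w.2⟩ w.2
      rw [Subtype.coe_eta, hw] at this
      have h2 := h ⟨w, hA.ge w.2⟩
      rw [← this] at h2
      exact h2
    obtain ⟨b, hb, hbx⟩ := ih₂ hB
    refine ⟨b * a, mul_mem hb ha, fun x hx => ?_⟩
    rw [MulAut.mul_apply, show a ⟨x, hx⟩ = ⟨φ x, hB.le (h x)⟩ from Subtype.ext (hax x hx)]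
    exact hbx ⟨φ x, h x⟩ _

/-- The generated automorphisms of a subgroup with centric image. -/
theorem uniq (n : ℕ) : UniqAbove F θ Z D p n := by
  suffices H : ∀ (d : ℕ) (P : Subgroup Ω), Nat.card (preimageAlong θ T') - Nat.card P = d →
      Ok θ Z D P → ∀ α : MulAut P, Gen0 F θ Z D p P (P.subtype.comp α.toMonoidHom) →
        α ∈ genA F θ D p P from fun P hP _ α hα => H _ P rfl hP α hα
  intro d
  induction d using Nat.strong_induction_on with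
  | _ d ih =>
  intro P hd hP α hα
  haveI := c.finS
  haveI := finite_of_le c.tle
  haveI := finite_of_le (preimageAlong_le θ T')
  by_cases hPT : P = preimageAlong θ T'
  · subst hPT
    obtain ⟨a, ha, hax⟩ := c.gen_top hα rfl
    rwa [show α = a from MulEquiv.ext fun x => Subtype.ext (hax x x.2).symm]
  have hbig : UniqAbove F θ Z D p (Nat.card P) := fun R hR hlt β hβ => by
    refine ih _ ?_ R rfl hR β hβ
    have := Subgroup.card_le_of_le hR.leT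
    have := Subgroup.card_le_of_le hP.leT
    omega
  obtain ⟨U₀, hU₀, hfull⟩ := exists_isFullyNormalized D (c.img_le_T hP.leT)
  obtain ⟨φ', hφ', hr'⟩ := hU₀
  obtain ⟨φ, hφ, hi⟩ := c.exists_gen_lift hφ'
  have hle : P ≤ preimageAlong θ (imageAlong θ P) := (c.pre_img hP.leS hP.zle).ge
  set φ₁ := φ.comp (Subgroup.inclusion hle) with hφ₁
  have hφ₁G : Gen0 F θ Z D p P φ₁ := c.gen_restrict hφ hle fun _ => rfl
  have hr : φ₁.range = preimageAlong θ U₀ := by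
    rw [c.range_eq_pre hP.zle (c.gen_mem hφ₁G)
      (φ' := φ') (fun x h => hi (Subgroup.inclusion hle x) h), hr']
  set P₀ := preimageAlong θ U₀ with hP₀def
  have h₀ : Ok θ Z D P₀ := hr ▸ c.ok_map hP (c.gen_mem hφ₁G)
  have himg : imageAlong θ P₀ = U₀ := c.img_pre (hfull.1.trans c.tle)
  have hfull' : D.IsFullyNormalized (imageAlong θ P₀) := himg.symm ▸ hfull
  have hcard : Nat.card P₀ = Nat.card P := by
    rw [← hr, card_range_eq (F.injective_of_mem (c.gen_mem hφ₁G))]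
  have hne : P₀ ≠ preimageAlong θ T' := fun h => hPT
    (Subgroup.eq_of_le_of_card_ge hP.leT (by rw [← hcard, h]))
  obtain ⟨ρ, hρ⟩ := c.exists_rho h₀ hfull' hP ⟨φ', hφ', hr'.trans himg.symm⟩
  obtain ⟨a, ha, hax⟩ := c.loop_gen hbig h₀ hfull' hcard hne hα P P le_rfl hP
    (range_subtype_comp_aut α) ρ ρ hρ hρ
  have hρF := c.gen_mem (c.rho_gen hP.leT hρ)
  obtain ⟨χ, hχ, hχr, hχx, -⟩ := exists_inverse hρF hρ.1
  have h1 := c.genA_congr h₀.leT hχ hχr ha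
  suffices e : α = MulAut.congr (isoOfHom χ (F.injective_of_mem hχ) hχr) a by rwa [e]
  refine MulEquiv.ext fun x => Subtype.ext ?_
  have hx0 : ρ x ∈ P₀ := c.rho_apply_mem hρ x
  have e1 : x = ⟨χ ⟨ρ x, hx0⟩, hχr.le ⟨_, rfl⟩⟩ := Subtype.ext (hχx x hx0).symm
  conv_rhs => rw [e1, congr_isoOfHom_apply]
  rw [show a ⟨ρ x, hx0⟩ = ⟨ρ (α x), c.rho_apply_mem hρ _⟩ from Subtype.ext (hax x hx0 (α x).2)]
  exact (hχx (α x) _).symm

end LCtx

end CfsgLib.FusionLifting
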